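import Cfsg.Agent.Mrg.Omega.F4Leaf.Pos
import Cfsg.Agent.Mrg.Omega.S5.SymBig
import Cfsg.Agent.Mrg.Omega.NSix.Free.Core
import Cfsg.Agent.Mrg.Omega.S5.Pair
import Cfsg.Agent.Mrg.Omega.TTn.Z.Nc
import Cfsg.Agent.Mrg.Omega.HOneTwo.Basic
import Cfsg.Agent.Mrg.Omega.BTwo.Split
import Cfsg.Agent.Mrg.Omega.HTwo.AlphaP
import Cfsg.Agent.Mrg.Omega.HT.Main
import Cfsg.Agent.Mrg.Omega.TTn.BOne
import Cfsg.Agent.Mrg.Omega.F4Leaf.Cen.Main
import Cfsg.Agent.Mrg.Omega.IId.Cv.SymPos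

-- merged: Cfsg.Agent.Mrg.Omega.F4Leaf.Fac
section

section


/-!
# LeafF4, `m ≥ 3`: the member in the form `Free.SixF`, the facts on the partner (#18458, helper300)

* `Fac A P ε` : `A` an even-subset module for `P` (degree `n`), `A ≤ O₂(C_G(r))`, `[A, O₂(C_G(r))] ≤ ⟨r⟩`, the pairs
  off `i`, `j` and their `C_G(r_ij)`-conjugates are in `Z(O₂(C_G(r_ij)))`, `O₂(C_G(r_ij))` acts on `A` as `⟨(i j)⟩`;
* `Sit.fac`, `Fac.conj`;
* `Fac.sixF` : (H2) and an element of some `WP ε i j` which moves `A` imply `SixF A P ε (WP ε)`;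
* `Fac.false` : no partner of type `T` which meets a `SixF`.
-/

set_option autoImplicit false

namespace Cfsg.Agent.Omega.F4Leaf.Facts

open Subgroup Pointwise Cfsg Cfsg.Agent Cfsg.Agent.Omega.MinPar
open Cfsg.Agent.ZN (o2 zc zl)
open Cfsg.Agent.ZN.ChoiceBase (cj mem_cj)
open Cfsg.Agent.Omega.S5.Def Cfsg.Agent.Omega.S5.Syl
open Cfsg.Agent.Omega.S5.SymBig (H2 rr_cj NN_cj)
open Cfsg.Agent.Omega.NSix.Base Cfsg.Agent.Omega.NSix.Basic Cfsg.Agent.Omega.NSix.FixApp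
open Cfsg.Agent.Omega.NSix.Zero (WP mem_WP WP_norm WP_conj zpow_cases)
open Cfsg.Agent.Omega.NSix.Free
open Cfsg.Agent.MinSimple.VModule (o2_isPGroup o2_le le_normalizer_o2)

universe u

variable {G : Type u} [Group G]

/-- the facts on a member of type `S_n` (any `V₀`), used by the END -/
structure Fac {n : ℕ} (A P : Subgroup G) (ε : (Fin n → ZMod 2) → G) : Prop where
  ev : EvenSet n A P ε
  le : ∀ i j, i ≠ j → A ≤ o2 (NN ε i j)
  conj_A : ∀ i j, i ≠ j → ∀ x ∈ o2 (NN ε i j), ∀ v ∈ A, x * v * x⁻¹ = v ∨ x * v * x⁻¹ = v * rr ε i j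
  act : ∀ i j, i ≠ j → ∀ x ∈ o2 (NN ε i j), Acts ε x 1 ∨ Acts ε x (Equiv.swap i j)
  cen : ∀ i j, i ≠ j → ∀ k l, k ≠ i → k ≠ j → l ≠ i → l ≠ j → ∀ f ∈ NN ε i j, ∀ x ∈ o2 (NN ε i j),
    f * rr ε k l * f⁻¹ * x = x * (f * rr ε k l * f⁻¹)

theorem o2_NN_cj [Finite G] {n : ℕ} (ε : (Fin n → ZMod 2) → G) (y : G) (i j : Fin n) :
    o2 (NN (fun x => y * ε x * y⁻¹) i j) = cj y (o2 (NN ε i j)) := by
  rw [NN_cj, ZN.ChoiceSit.o2_cj]

theorem Fac.conj [Finite G] {n : ℕ} {A P : Subgroup G} {ε : (Fin n → ZMod 2) → G} (h : Fac A P ε) (y : G) :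
    Fac (cj y A) (cj y P) (fun x => y * ε x * y⁻¹) where
  ev := h.ev.conj y
  le i j hij x hx := by
    rw [o2_NN_cj, mem_cj]
    exact h.le i j hij (mem_cj.mp hx)
  conj_A i j hij x hx v hv := by
    rw [o2_NN_cj, mem_cj] at hx
    rw [mem_cj] at hv
    rw [rr_cj]
    rcases h.conj_A i j hij _ hx _ hv with h1 | h1
    · left
      calc x * v * x⁻¹ = y * (y⁻¹ * x * y * (y⁻¹ * v * y) * (y⁻¹ * x * y)⁻¹) * y⁻¹ := by group
        _ = v := by rw [h1]; group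
    · right
      calc x * v * x⁻¹ = y * (y⁻¹ * x * y * (y⁻¹ * v * y) * (y⁻¹ * x * y)⁻¹) * y⁻¹ := by group
        _ = _ := by rw [h1]; group
  act i j hij x hx := by
    rw [o2_NN_cj, mem_cj] at hx
    have e : y * (y⁻¹ * x * y) * y⁻¹ = x := by group
    rw [← e, acts_conj_label_iff, acts_conj_label_iff]
    exact h.act i j hij _ hx
  cen i j hij k l k1 k2 l1 l2 f hf x hx := by
    rw [o2_NN_cj, mem_cj] at hx
    rw [NN_cj, mem_cj] at hf
    rw [rr_cj]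
    have h1 := h.cen i j hij k l k1 k2 l1 l2 _ hf _ hx
    calc f * (y * rr ε k l * y⁻¹) * f⁻¹ * x
        = y * (y⁻¹ * f * y * rr ε k l * (y⁻¹ * f * y)⁻¹ * (y⁻¹ * x * y)) * y⁻¹ := by group
      _ = _ := by rw [h1]; group

/-- the facts hold in `Pos.Sit` -/
theorem _root_.Cfsg.Agent.Omega.F4Leaf.Pos.Sit.fac [Finite G] {S : Sylow 2 G} {P : Subgroup G} {m : ℕ}
    {A : Subgroup G} {ε : (Fin (2 ^ m + 1) → ZMod 2) → G} (h : Pos.Sit S P m A ε) : Fac A P ε where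
  ev := h.split.even
  le _ _ hij := h.split.A_le.trans (h.V_le hij)
  conj_A _ _ hij _ hx _ hv := h.conj_V hij hx (h.split.A_le hv)
  act _ _ hij _ hx := h.acts hij hx
  cen i j hij k l k1 k2 l1 l2 f hf x hx :=
    h.uz_comm hij (subset_closure ⟨f, hf, _, Or.inr (rr_mem_Vn ⟨k1, k2⟩ ⟨l1, l2⟩), rfl⟩) hx

namespace Fac

section

variable {n : ℕ} {A P : Subgroup G} {ε : (Fin n → ZMod 2) → G} (h : Fac A P ε)
include h

/-- the points off `i`, `j` commute with `O₂(C_G(r_ij))` -/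
theorem pt (hodd : Odd n) (hn : 3 ≤ n) {i j k : Fin n} (hij : i ≠ j) (ki : k ≠ i) (kj : k ≠ j) :
    zz ε k ∈ centralizer (o2 (NN ε i j) : Set G) := by
  refine zz_mem_of_rr h.ev hodd hn hij ?_ ?_ ki kj
  · rw [mem_centralizer_iff]
    intro x hx
    exact mem_NN.mp (o2_le _ hx)
  · intro a c _ ai aj ci cj
    rw [mem_centralizer_iff]
    intro x hx
    have h1 := h.cen i j hij a c ai aj ci cj 1 (one_mem _) x hx
    rw [one_mul, inv_one, mul_one] at h1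
    exact h1.symm

theorem uu_cen (hodd : Odd n) (hn : 3 ≤ n) {i j : Fin n} (hij : i ≠ j) :
    UU ε i j ≤ centralizer (o2 (NN ε i j) : Set G) := by
  unfold UU
  rw [closure_le]
  rintro u ⟨g, hg, k, k1, k2, rfl⟩
  have h1 := NSix.End.Six.norm_cen _ (le_normalizer_o2 _ hg)
  exact (mem_normalizer_iff.mp h1 _).mp (h.pt hodd hn hij k1 k2)

theorem ww [Finite G] (hG : IsCharacteristicTwoType G) (hn : 3 ≤ n) {i j : Fin n} (hij : i ≠ j) :
    WP ε i j ≤ o2 (NN ε i j) := by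
  intro g hg
  exact MinSimple.Geo.mem_o2_of_stab hG (rr_sq h.ev i j) (rr_ne_one h.ev hn hij) hg.1 hg.2

theorem wp_conj {i j : Fin n} {x w : G} (hx : x ∈ o2 (NN ε i j)) (hw : w ∈ WP ε i j) :
    w * x * w⁻¹ = x ∨ w * x * w⁻¹ = x * rr ε i j := by
  rcases zpow_cases (rr_sq h.ev i j) (hw.2 x hx) with h1 | h1
  · left
    rwa [mul_inv_eq_one] at h1
  · right
    rw [mul_inv_eq_iff_eq_mul] at h1
    rw [h1]
    exact (mem_NN.mp (o2_le _ hx)).symm

theorem mem_wp {i j : Fin n} (hij : i ≠ j) {v : G} (hv : v ∈ A) : v ∈ WP ε i j := by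
  rw [mem_WP]
  refine ⟨o2_le _ (h.le i j hij hv), fun q hq => ?_⟩
  have e : v * q * v⁻¹ * q⁻¹ = v * (q * v * q⁻¹)⁻¹ := by group
  rw [e]
  rcases h.conj_A i j hij q hq v hv with h1 | h1
  · rw [h1, mul_inv_cancel]
    exact one_mem _
  · rw [h1, mul_inv_rev, rr_inv h.ev]
    have h2 : rr ε i j * v⁻¹ = v⁻¹ * rr ε i j := h.ev.comm_mem (rr_mem h.ev i j) (inv_mem hv)
    rw [h2, mul_inv_cancel_left]
    exact mem_zpowers _

/-- **`SixF` from (H2)** -/
theorem sixF [Finite G] (hG : IsCharacteristicTwoType G) (hodd : Odd n) (hn : 3 ≤ n) (hq : H2 ε)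
    (hN : ∃ i j, i ≠ j ∧ ∃ g ∈ WP ε i j, ¬ g ∈ centralizer (A : Set G)) : SixF A P ε (WP ε) where
  ev := h.ev
  Vle _ _ hij _ hv := h.mem_wp hij hv
  wn _ _ _ _ hg _ hx := WP_norm hg hx
  wc _ _ hg _ _ _ _ hx := WP_conj hg hx
  cen i j hij u hu w hw := (mem_centralizer_iff.mp (h.uu_cen hodd hn hij hu) w (h.ww hG hn hij hw)).symm
  act i j hij w hw := h.act i j hij w (h.ww hG hn hij hw)
  mov := by
    obtain ⟨i0, j0, hij0, g, hg, hgV⟩ := hN
    have hgs : Acts ε g (Equiv.swap i0 j0) :=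
      (h.act i0 j0 hij0 g (h.ww hG hn hij0 hg)).resolve_left fun h1 => hgV (h.ev.acts_one_iff.mp h1)
    intro i j hij
    obtain ⟨σ, h1, h2, -⟩ := exists_perm hij0 hij
    obtain ⟨p, -, hp⟩ := h.ev.full σ
    refine ⟨p * g * p⁻¹, ?_, ?_⟩
    · have := WP_conj hp hg
      rwa [h1, h2] at this
    · have h3 := hp.conj hgs
      have h4 : σ * Equiv.swap i0 j0 * σ⁻¹ = Equiv.swap i j := by
        rw [← Equiv.swap_apply_apply, h1, h2]
      rwa [h4] at h3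
  tra i j k l hij hkl h1 h2 h3 h4 _ hu _ hw := h.wp_conj (hq i j k l hij hkl h1 h2 h3 h4 hu) hw
  hq := hq
  qc _ _ _ _ hx _ hw := h.wp_conj hx hw
  uq i j hij u hu q hq := (mem_centralizer_iff.mp (h.uu_cen hodd hn hij hu) q hq).symm

end

/-- three letters off two letters -/
theorem exists_three' {n : ℕ} (hn : 5 ≤ n) (i j : Fin n) : ∃ p q r : Fin n, p ≠ q ∧ p ≠ r ∧ q ≠ r ∧
    (p ≠ i ∧ p ≠ j) ∧ (q ≠ i ∧ q ≠ j) ∧ (r ≠ i ∧ r ≠ j) := by
  have hcard : 2 < (Finset.univ \ {i, j} : Finset (Fin n)).card := by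
    have h1 := Finset.le_card_sdiff {i, j} (Finset.univ : Finset (Fin n))
    rw [Finset.card_univ, Fintype.card_fin] at h1
    have h2 : ({i, j} : Finset (Fin n)).card ≤ 2 := Finset.card_le_two
    omega
  obtain ⟨p, hp, q, hq, r, hr, hpq, hpr, hqr⟩ := Finset.two_lt_card.mp hcard
  simp only [Finset.mem_sdiff, Finset.mem_univ, true_and, Finset.mem_insert,
    Finset.mem_singleton, not_or] at hp hq hr
  exact ⟨p, q, r, hpq, hpr, hqr, hp, hq, hr⟩

/-- **END for a partner of type `T`**: `r_ij = r'_{i'j'}`, `a' ∈ A'` induces `(i j)` on `A`. -/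
theorem false [Finite G] (hG : IsCharacteristicTwoType G) {n n' : ℕ} {A A' L P' : Subgroup G}
    {ε : (Fin n → ZMod 2) → G} {ε' : (Fin n' → ZMod 2) → G} {W : Fin n → Fin n → Subgroup G}
    (b : SixF A L ε W) (hodd : Odd n) (hn : 7 ≤ n) (S : Sylow 2 G) (hS : (S : Subgroup G) ≤ L) {o : Fin n}
    (ho : ∀ s ∈ (S : Subgroup G), s * zz ε o = zz ε o * s) (h' : Fac A' P' ε') (hn' : 5 ≤ n')
    {i j : Fin n} (hij : i ≠ j) {i' j' : Fin n'} (hij' : i' ≠ j') (hr : rr ε i j = rr ε' i' j')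
    (ha : ∃ a ∈ A', Acts ε a (Equiv.swap i j)) : False := by
  obtain ⟨a, haA, ha⟩ := ha
  obtain ⟨p, q, r, hpq, hpr, hqr, ⟨p1, p2⟩, ⟨q1, q2⟩, ⟨r1, r2⟩⟩ := exists_three' hn' i' j'
  have hNN : NN ε i j = NN ε' i' j' := by unfold NN; rw [hr]
  have key : ∀ k l, k ≠ l → k ≠ i' → k ≠ j' → l ≠ i' → l ≠ j' → rr ε' k l ∈ o2 (NN ε i j) ∧
      (∀ x ∈ o2 (NN ε i j), rr ε' k l * x = x * rr ε' k l) ∧
      ∀ f : G, f * rr ε' k l = rr ε' k l * f → a * (f * rr ε i j * f⁻¹) = (f * rr ε i j * f⁻¹) * a := by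
    intro k l hkl k1 k2 l1 l2
    rw [hNN, hr]
    refine ⟨h'.le i' j' hij' (rr_mem h'.ev k l), fun x hx => ?_, fun f hf => ?_⟩
    · have h1 := h'.cen i' j' hij' k l k1 k2 l1 l2 1 (one_mem _) x hx
      rwa [one_mul, inv_one, mul_one] at h1
    · exact (h'.cen k l hkl i' j' k1.symm l1.symm k2.symm l2.symm f (mem_NN.mpr hf) a
        (h'.le k l hkl haA)).symm
  have kpq := key p q hpq p1 p2 q1 q2
  have kqr := key q r hqr q1 q2 r1 r2
  have kpr := key p r hpr p1 p2 r1 r2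
  refine SixF.false_three hG b hodd hn S hS ho hij (c := ![rr ε' p q, rr ε' q r, rr ε' p r])
    ?_ ?_ ?_ ha ?_
  · intro k
    fin_cases k
    · exact kpq.1
    · exact kqr.1
    · exact kpr.1
  · intro k
    fin_cases k
    · exact kpq.2.1
    · exact kqr.2.1
    · exact kpr.2.1
  · change rr ε' p q * rr ε' q r * rr ε' p r = 1
    rw [rr_add h'.ev, rr_sq h'.ev]
  · intro k
    fin_cases k
    · exact kpq.2.2
    · exact kqr.2.2
    · exact kpr.2.2

end Fac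

end Cfsg.Agent.Omega.F4Leaf.Facts

end

section


/-!
# LeafF4, `m ≥ 3`, partner of type `T`: `F4SymBig` from (H2) (#17439, #18458, helper300)

* `two_of_labZ` : the position of `A`, `A' = A₂ ^ y` (`NSix.NoTk.Two`) for any `V₀`, `V₀'`;
* `exists_common` : `A'` induces exactly `⟨(i j)⟩` on `A`, `A` induces `⟨(i' j')⟩` on `A'`, `r_ij = r'_{i'j'}`;
* `false_two` : (H2) for the member `A` (`m ≥ 3`) is impossible;
* `MemH2 K` : (H2) for the members of degree `≥ 9` with `V₀ ≠ 1`; `f4SymBig_of : MemH2 K → F4SymBig K`.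
-/

set_option autoImplicit false

namespace Cfsg.Agent.Omega.F4Leaf.Two

open Subgroup Pointwise Cfsg Cfsg.Agent.ZN Cfsg.Agent.ZN.ChoiceBase Cfsg.Agent.Omega.MinPar
open Cfsg.Agent.Omega.Frame Cfsg.Agent.Omega.FFThm
open Cfsg.Agent.Omega.FrameLE (AllIn)
open Cfsg.Agent.Omega.FrameFF (cv Single Free)
open Cfsg.Agent.Omega.FrameMulti (IsSym IsNat Typed AllTyped NoWr LeafF4)
open Cfsg.Agent.Omega.S5.Def Cfsg.Agent.Omega.S5.Syl Cfsg.Agent.Omega.S5.Pair Cfsg.Agent.Omega.S5.Main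
open Cfsg.Agent.Omega.S5.SymBig (H2 pos_symm)
open Cfsg.Agent.Omega.F4Leaf.Def Cfsg.Agent.Omega.F4Leaf.Main Cfsg.Agent.Omega.F4Leaf.Facts
open Cfsg.Agent.Omega.NSix.Base Cfsg.Agent.Omega.NSix.Basic
open Cfsg.Agent.Omega.NSix.RThree (acts_swap')
open Cfsg.Agent.Omega.NSix.Zero (WP mem_WP)

universe u

section abs

variable {G : Type u} [Group G]

/-- a factor acts like the whole group -/
theorem side_of {n : ℕ} {A B B' P : Subgroup G} {ε : (Fin n → ZMod 2) → G} (hE : EvenSet n A P ε)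
    (h : Side B ε) (hB : B' ≤ B)
    (hf : ∀ b ∈ B, ∃ c ∈ centralizer (A : Set G), ∃ a ∈ B', b = c * a) : Side B' ε := by
  intro a ha
  obtain ⟨τ, h1, h2⟩ := h a (hB ha)
  refine ⟨τ, h1, fun i hi => ⟨(h2 i hi).1, ?_⟩⟩
  obtain ⟨b, hb, h3⟩ := (h2 i hi).2
  obtain ⟨c, hc, a', ha', rfl⟩ := hf b hb
  refine ⟨a', ha', ?_⟩
  have h4 := (hE.acts_one_iff.mpr (inv_mem hc)).mul h3
  rwa [one_mul, inv_mul_cancel_left] at h4

/-- the common pair -/
theorem rr_eq {n n' : ℕ} {V V' L L' : Subgroup G} {ε : (Fin n → ZMod 2) → G} {ε' : (Fin n' → ZMod 2) → G}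
    (hE : EvenSet n V L ε) (hE' : EvenSet n' V' L' ε') (hn : 3 ≤ n) (hn' : 3 ≤ n') {i j : Fin n} {i' j' : Fin n'}
    (hij : i ≠ j) (hij' : i' ≠ j') (mov : ∃ b ∈ V', Acts ε b (Equiv.swap i j))
    (act : ∀ b ∈ V', Acts ε b 1 ∨ Acts ε b (Equiv.swap i j)) (mov' : ∃ a ∈ V, Acts ε' a (Equiv.swap i' j')) :
    rr ε i j = rr ε' i' j' := by
  obtain ⟨b, hb, hb1⟩ := mov
  obtain ⟨a, ha, ha1⟩ := mov'
  -- a common witness: `a` moved by `b`
  obtain ⟨x, rfl⟩ := hE.surj a ha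
  obtain ⟨y, rfl⟩ := hE'.surj b hb
  by_cases hx : x i = x j
  · -- `a` is fixed by `V'`
    exfalso
    have h1 : ∀ c ∈ V', c * ε x * c⁻¹ = ε x := by
      intro c hc
      rcases act c hc with h2 | h2
      · exact h2 x
      · exact (acts_swap' hE h2 x).1 hx
    have h2 : ε x ∈ centralizer (V' : Set G) := by
      rw [mem_centralizer_iff]
      intro c hc
      exact mul_inv_eq_iff_eq_mul.mp (h1 c hc)
    have h3 := hE'.acts_unique hn' (hE'.acts_one_iff.mpr h2) ha1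
    exact hij' (Equiv.swap_eq_one_iff.mp h3.symm)
  by_cases hy : y i' = y j'
  · exfalso
    have h1 := (acts_swap' hE' ha1 y).1 hy
    have h2 := (acts_swap' hE hb1 x).2 hx
    have h3 : ε' y * ε x * (ε' y)⁻¹ = ε x := by
      rw [mul_inv_eq_iff_eq_mul] at h1 ⊢
      exact h1.symm
    rw [h3] at h2
    exact rr_ne_one hE hn hij (left_eq_mul.mp h2)
  · have h1 := (acts_swap' hE' ha1 y).2 hy
    have h2 := (acts_swap' hE hb1 x).2 hx
    have e1 : rr ε i j = (ε x)⁻¹ * (ε' y * ε x * (ε' y)⁻¹) := by rw [h2]; group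
    have e2 : rr ε' i' j' = (ε' y)⁻¹ * (ε x * ε' y * (ε x)⁻¹) := by rw [h1]; group
    have e3 : (rr ε' i' j')⁻¹ = rr ε' i' j' := rr_inv hE' _ _
    rw [← e3, e2, e1, hE.inv x]
    have e4 : (ε' y)⁻¹ = ε' y := hE'.inv y
    rw [e4]
    simp only [mul_inv_rev, hE.inv x, e4]
    group

theorem wp_eq {n n' : ℕ} {ε : (Fin n → ZMod 2) → G} {ε' : (Fin n' → ZMod 2) → G} {i j : Fin n} {i' j' : Fin n'}
    (h : rr ε i j = rr ε' i' j') : WP ε i j = WP ε' i' j' := by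
  have hN : NN ε i j = NN ε' i' j' := by unfold NN; rw [h]
  ext x
  rw [mem_WP, mem_WP, hN, h]

end abs

section pair

variable {G : Type u} [Group G] [Finite G] {S : Sylow 2 G} {P₁ P₂ : Subgroup G} {y : G} {m m' : ℕ} {A : Subgroup G}
  {ε : (Fin (2 ^ m + 1) → ZMod 2) → G} {A₂ : Subgroup G} {ε₂ : (Fin (2 ^ m' + 1) → ZMod 2) → G}

theorem labTwoZ_symm (h : LabTwoZ S P₁ P₂ y m m' A ε A₂ ε₂) : LabTwoZ S P₂ P₁ y⁻¹ m' m A₂ ε₂ A ε where
  toPos := pos_symm h.toPos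
  split := h.split₂
  side := by
    have h1 := h.side₂.conj y⁻¹
    have e : (fun x => y⁻¹ * (fun x => y * ε₂ x * y⁻¹) x * y⁻¹⁻¹) = ε₂ := by
      funext x
      dsimp only
      group
    rwa [e] at h1
  split₂ := h.split
  side₂ := by
    have h1 := h.side.conj y⁻¹
    rwa [cj_inv_cj] at h1

variable (hG : IsCharacteristicTwoType G) (hl : LabTwoZ S P₁ P₂ y m m' A ε A₂ ε₂)
include hG hl

theorem fac₁ : ∀ b ∈ zl (S : Subgroup G) P₁,
    ∃ c ∈ centralizer ((cj y A₂ : Subgroup G) : Set G), ∃ a ∈ A, b = c * a := by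
  intro b hb
  obtain ⟨v, hv, a, ha, rfl⟩ := hl.split.mul_eq hG hl.pair.star₁ hb
  refine ⟨v, ?_, a, ha, rfl⟩
  rw [mem_centralizer_iff]
  intro x hx
  refine hl.split.comm (hl.pair.star₁.le (hl.le ?_)) hv
  exact cj_mono y hl.split₂.A_le hx

theorem fac₂ : ∀ b ∈ cj y (zl (S : Subgroup G) P₂), ∃ c ∈ centralizer (A : Set G), ∃ a ∈ cj y A₂, b = c * a := by
  intro b hb
  rw [mem_cj] at hb
  obtain ⟨v, hv, a, ha, hva⟩ := hl.split₂.mul_eq hG hl.pair.star₂ hb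
  refine ⟨y * v * y⁻¹, ?_, y * a * y⁻¹, ?_, ?_⟩
  · rw [mem_centralizer_iff]
    intro x hx
    have h1 : y⁻¹ * x * y ∈ (S : Subgroup G) := mem_cj.mp (hl.ge (hl.split.A_le hx))
    have h2 := hl.split₂.comm (hl.pair.star₂.le h1) hv
    calc x * (y * v * y⁻¹) = y * (y⁻¹ * x * y * v) * y⁻¹ := by group
      _ = y * (v * (y⁻¹ * x * y)) * y⁻¹ := by rw [h2]
      _ = _ := by group
  · rw [mem_cj]
    have e : y⁻¹ * (y * a * y⁻¹) * y = a := by group
    rwa [e]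
  · calc b = y * (y⁻¹ * b * y) * y⁻¹ := by group
      _ = _ := by rw [hva]; group

/-- The position of `A`, `A' = A₂ ^ y`. -/
theorem two_of_labZ : NSix.NoTk.Two A (cj y A₂) P₁ (cj y P₂) (S : Subgroup G)
    ((y • S : Sylow 2 G) : Subgroup G) ε fun x => y * ε₂ x * y⁻¹ where
  even := hl.split.even
  even' := hl.split₂.even.conj y
  le := hl.pair.star₁.le
  le' := by rw [NSix.NoTk.coe_smul]; exact cj_mono y hl.pair.star₂.le
  fix := hl.split.fix0
  fix' := by rw [NSix.NoTk.coe_smul]; exact NSix.NoTk.fix0_conj hl.split₂.fix0 y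
  in' := (cj_mono y hl.split₂.A_le).trans hl.le
  in_ := by rw [NSix.NoTk.coe_smul]; exact hl.split.A_le.trans hl.ge
  side := side_of hl.split.even hl.side (cj_mono y hl.split₂.A_le) (fac₂ hG hl)
  side' := side_of (hl.split₂.even.conj y) hl.side₂ hl.split.A_le (fac₁ hG hl)

theorem not_cen₁ : ¬ cj y A₂ ≤ centralizer (A : Set G) := by
  intro h
  apply hl.pair.ne
  refine commutator_eq_bot_iff_le_centralizer.mpr (le_centralizer_iff.mp ?_)
  change cj y (zl (S : Subgroup G) P₂) ≤ _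
  intro b hb
  have hbS := hl.le hb
  obtain ⟨c, hc, a, ha, rfl⟩ := fac₂ hG hl b hb
  rw [mem_centralizer_iff]
  intro x hx
  obtain ⟨v, hv, a1, ha1, rfl⟩ := hl.split.mul_eq hG hl.pair.star₁ hx
  have h1 : a1 * (c * a) = c * a * a1 := mem_centralizer_iff.mp (mul_mem hc (h ha)) a1 ha1
  have h2 : c * a * v = v * (c * a) := hl.split.comm (hl.pair.star₁.le hbS) hv
  calc v * a1 * (c * a) = v * (a1 * (c * a)) := by group
    _ = v * (c * a) * a1 := by rw [h1]; group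
    _ = _ := by rw [← h2]; group

theorem not_cen₂ : ¬ A ≤ centralizer ((cj y A₂ : Subgroup G) : Set G) := fun h =>
  not_cen₁ hG hl (le_centralizer_iff.mp h)

/-- **the common transposition** -/
theorem exists_common (hm : 2 ≤ m) (hm' : 2 ≤ m') : ∃ i j i' j', i ≠ j ∧ i' ≠ j' ∧
    rr ε i j = rr (fun x => y * ε₂ x * y⁻¹) i' j' ∧
    (∃ b ∈ cj y A₂, Acts ε b (Equiv.swap i j)) ∧
    (∀ b ∈ cj y A₂, Acts ε b 1 ∨ Acts ε b (Equiv.swap i j)) ∧
    (∃ a ∈ A, Acts (fun x => y * ε₂ x * y⁻¹) a (Equiv.swap i' j')) ∧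
    ∀ a ∈ A, Acts (fun x => y * ε₂ x * y⁻¹) a 1 ∨ Acts (fun x => y * ε₂ x * y⁻¹) a (Equiv.swap i' j') := by
  have ht := two_of_labZ hG hl
  obtain ⟨i, j, hij, h1, h2⟩ := NSix.NoTk.acts_one_or hG hm hm' ht (not_cen₁ hG hl)
  obtain ⟨i', j', hij', h1', h2'⟩ := NSix.NoTk.acts_one_or hG hm' hm ht.symm (not_cen₂ hG hl)
  exact ⟨i, j, i', j', hij, hij', rr_eq ht.even ht.even' (three_le (by omega)) (three_le (by omega)) hij hij' h1 h2
    h1', h1, h2, h1', h2'⟩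

/-- **(H2) for a member with `m ≥ 3` is impossible, partner of type `T`.** -/
theorem false_two (hm : 3 ≤ m) (hm' : 2 ≤ m') (hq : H2 ε) : False := by
  obtain ⟨i, j, i', j', hij, hij', hr, h1, -, -, -⟩ := exists_common hG hl (by omega) hm'
  have s₁ : Pos.Sit S P₁ m A ε := ⟨hG, hl.pair.star₁, by omega, hl.split⟩
  have s₂ : Pos.Sit S P₂ m' A₂ ε₂ := ⟨hG, hl.pair.star₂, hm', hl.split₂⟩
  have f₂ := s₂.fac.conj y
  have hn7 : 7 ≤ 2 ^ m + 1 := by
    have : 2 ^ 3 ≤ 2 ^ m := Nat.pow_le_pow_right (by norm_num) hm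
    omega
  have hodd : Odd (2 ^ m + 1) := Even.add_one (Nat.even_pow.mpr ⟨even_two, by omega⟩)
  have hn5 : 5 ≤ 2 ^ m' + 1 := five_le hm'
  obtain ⟨a, ha, ha1⟩ := h1
  have b := s₁.fac.sixF hG hodd s₁.three hq ⟨i, j, hij, a, by rw [wp_eq hr]; exact f₂.mem_wp hij' ha, fun h0 =>
    hij (Equiv.swap_eq_one_iff.mp
      (hl.split.even.acts_unique s₁.three (hl.split.even.acts_one_iff.mpr h0) ha1).symm)⟩
  refine Fac.false hG b hodd hn7 S hl.pair.star₁.le (o := 0) (fun s hs => ?_) f₂ hn5 hij hij' hr ⟨a, ha, ha1⟩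
  obtain ⟨σ, hσ⟩ := hl.split.even.perm s (hl.pair.star₁.le hs)
  exact (hl.split.even.fixes_iff s₁.three hσ 0).mpr (hl.split.fix0 s hs σ hσ)

end pair

/-! ### The assembly -/

/-- **(H2)** for the member `V = V_{P₁}` of degree `2^m + 1 ≥ 9`, `V₀ ≠ 1`, of a mutual pair. -/
def MemH2 (K : Cls.{u}) : Prop :=
  ∀ (G : Type u) [Group G] [Finite G], Ctx G → K G → ∀ (S : Sylow 2 G), Full (S : Subgroup G) →
    AllIn (S : Subgroup G) → AllTyped (S : Subgroup G) → NoWr (S : Subgroup G) →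
    ∀ (P₁ P₂ : Subgroup G) (y : G) (m : ℕ) (A : Subgroup G) (ε : (Fin (2 ^ m + 1) → ZMod 2) → G), 3 ≤ m →
      LabZ S P₁ P₂ y m A ε → cv (S : Subgroup G) P₁ ≠ ⊥ → cv (S : Subgroup G) P₂ ≠ ⊥ → ¬ IsKnownSimple' G → H2 ε

/-- **`F4SymBig` from (H2)** -/
theorem f4SymBig_of {K : Cls.{u}} (h2 : MemH2 K) : F4SymBig K := by
  intro G _ _ hG hcl S hF hI hT hW P₁ P₂ y m m' A ε A₂ ε₂ hm hm' hbig hl hc₁ hc₂
  by_contra hk
  rcases hbig with h3 | h3
  · exact false_two hG.char2 hl h3 hm'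
      (h2 G hG hcl S hF hI hT hW P₁ P₂ y m A ε h3 hl.toLabZ hc₁ hc₂ hk)
  · have hl' := labTwoZ_symm hl
    exact false_two hG.char2 hl' h3 hm
      (h2 G hG hcl S hF hI hT hW P₂ P₁ y⁻¹ m' A₂ ε₂ h3 hl'.toLabZ hc₂ hc₁ hk)

end Cfsg.Agent.Omega.F4Leaf.Two

end

end

-- merged: Cfsg.Agent.Mrg.Omega.F4Leaf.OT.Inst
section

section


/-!
# LeafF4 (O1), #18759 (4): the instance of II.0h1 over `T`

* `htt` : `HTT T P V R 0`, `P = ⟨T, X⟩`;
* `mem_Z0` : `Z₀ = V₀ ⟨a⟩`;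
* `hLE` : LEMMA E;
* `odd_MZ`, `odd_MP` : `T` has odd index in `⟨C(Ω₁Z(T)), X⟩`, `⟨C(n) ∩ C(z), X⟩` (`z = v a`).
-/

set_option autoImplicit false
set_option linter.unusedSectionVars false

namespace Cfsg.Agent.Omega.F4Leaf.OT.Inst

open Subgroup Cfsg
open Cfsg.Agent.ZN hiding le_normalizer_o2 mem_zc zc_comm zc_sq
open Cfsg.Agent.Omega.BTwo hiding cj_O2
open Cfsg.Agent.Omega.S5.Mod Cfsg.Agent.Omega.S5.TT Cfsg.Agent.Omega.TTn
open Cfsg.Agent.Omega.HT Cfsg.Agent.Omega.HTwo Cfsg.Agent.Omega.HTwo.ThmA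
open Cfsg.Agent.Omega.F4Leaf.OT.Tone Cfsg.Agent.Omega.F4Leaf.OT.Line
open Cfsg.Agent.Omega.TTn.Z (Base)
open Cfsg.Agent.Omega.S5.TT.Pos (na ns as sn n_ne s_ne a_ne n_ne_a n_ne_s a_ne_s e_sq' mem_C)
open Cfsg.Agent.MinSimple.VModule (o2_isPGroup le_o2 o2_le le_normalizer_o2 o2_le_of_sylow mem_zc zc_le zc_comm zc_sq)

universe u

variable {G : Type u} [Group G]

/-- `P = ⟨T, X⟩` -/
def PP (S : Sylow 2 G) {A L : Subgroup G} (M : FiveMod A L) : Subgroup G := TS S M ⊔ XX (LV M) (R M)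

variable [Finite G] {S : Sylow 2 G} {A L : Subgroup G} {M : FiveMod A L} {k : G} {V₀ : Subgroup G}
  (c : Cfg S M k V₀)
include c

theorem bt' : BT (LV M) (R M) := bt c.b

/-- `T` centralises `a` and `V₀` -/
theorem T_a {g : G} (hg : g ∈ TS S M) : g * M.e aa = M.e aa * g := c.b.dih₁.T_comm_a hg

/-- `X` centralises `a` and `V₀` -/
theorem X_cen {g : G} (hg : g ∈ XX (LV M) (R M)) :
    g * M.e aa = M.e aa * g ∧ ∀ v ∈ V₀, g * v = v * g := by
  have h1 : XX (LV M) (R M) ≤ centralizer ({M.e aa} : Set G) ⊓ centralizer (V₀ : Set G) := by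
    refine iSup_le fun i => ((bt' c).W_le_Q i).trans ?_
    obtain ⟨l, hlL, hl⟩ := exists_sg M i
    rw [← mov_QQ hl, QQ_zero]
    have hl' : l ∈ centralizer ({M.e aa} : Set G) ⊓ centralizer (V₀ : Set G) := by
      refine ⟨mem_C.2 (mov_aa hl), mem_centralizer_iff.2 fun v hv => ?_⟩
      exact (c.V0L l hlL v hv).symm
    rw [BTwo.cj_le_iff]
    intro x hx
    have hxT : x ∈ TS S M := c.b.Q_le_T hx
    have hx' : x ∈ centralizer ({M.e aa} : Set G) ⊓ centralizer (V₀ : Set G) :=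
      ⟨mem_C.2 (T_a c hxT), mem_centralizer_iff.2 fun v hv => (c.V0L x (c.T_le_L hxT) v hv).symm⟩
    exact mul_mem (mul_mem hl' hx') (inv_mem hl')
  obtain ⟨h2, h3⟩ := h1 hg
  exact ⟨mem_C.1 h2, fun v hv => (mem_centralizer_iff.1 h3 v hv).symm⟩

theorem P_cen {g : G} (hg : g ∈ PP S M) : g * M.e aa = M.e aa * g ∧ ∀ v ∈ V₀, g * v = v * g := by
  have h1 : PP S M ≤ centralizer ({M.e aa} : Set G) ⊓ centralizer (V₀ : Set G) := by
    refine sup_le ?_ ?_
    · intro x hx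
      exact ⟨mem_C.2 (T_a c hx), mem_centralizer_iff.2 fun v hv => (c.V0L x (c.T_le_L hx) v hv).symm⟩
    · intro x hx
      obtain ⟨h1, h2⟩ := X_cen c hx
      exact ⟨mem_C.2 h1, mem_centralizer_iff.2 fun v hv => (h2 v hv).symm⟩
  obtain ⟨h2, h3⟩ := h1 hg
  exact ⟨mem_C.1 h2, fun v hv => (mem_centralizer_iff.1 h3 v hv).symm⟩

theorem T_norm : TS S M ≤ normalizer (LV M : Set G) := by
  intro g hg
  obtain ⟨p, hp, hi⟩ := c.b.dih₁.T_ind hg
  refine norm_of M fun i => ?_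
  obtain ⟨j, hj⟩ := ttp_lv p hp i
  exact ⟨j, by rw [hi, hj]⟩

/-- an element of `X` moving `n` to the point `i` -/
theorem exists_X (i : Fin 3) : ∃ g ∈ XX (LV M) (R M), g * M.e nn * g⁻¹ = M.e (lv i) := by
  obtain ⟨g, hg, h⟩ := (bt' c).trans_X_one 0 i
  refine ⟨g, hg, ?_⟩
  have h1 : g * M.e (lv 0) * g⁻¹ ∈ R M i := by rw [← h]; exact BTwo.conj_mem_cj (gen_mem M 0)
  rcases (mem_R M).1 h1 with h2 | h2
  · exfalso
    apply e_lv_ne M 0
    have : M.e (lv 0) = g⁻¹ * (g * M.e (lv 0) * g⁻¹) * g := by group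
    rw [this, h2]; group
  · exact h2

theorem loc {N : Subgroup G} (hS : TS S M ≤ N) (hX : XX (LV M) (R M) ≤ N) :
    o2 N ≤ centralizer (LV M : Set G) := by
  obtain ⟨x, hxS, hx⟩ := c.b.dih₁.exists_swap
  have hOn : ∀ {g w : G}, g ∈ N → w ∈ o2 N → g * w * g⁻¹ ∈ o2 N := fun {g w} hg hw =>
    (mem_normalizer_iff.1 (le_normalizer_o2 N hg) w).1 hw
  obtain ⟨RR, hRR⟩ : ∃ RR, RR = o2 N ⊔ TS S M := ⟨_, rfl⟩
  have hRp : IsPGroup 2 RR := by
    rw [hRR]
    exact IsPGroup.to_sup_of_normal_left' (o2_isPGroup N) c.T_p (hS.trans (le_normalizer_o2 N))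
  have hTR : TS S M ≤ RR := by rw [hRR]; exact le_sup_right
  have hOR : o2 N ≤ RR := by rw [hRR]; exact le_sup_left
  -- `O ≤ T`
  have hOT : o2 N ≤ TS S M := by
    intro w hw
    by_contra hwT
    have a1 : w * M.e nn * w⁻¹ = M.e aa := by
      rw [← c.act_eq hRp hTR (hOR hw) hwT hx hxS _ c.n_zcT, Z.Dih.tt_n hx]
    have a2 : w * M.e aa * w⁻¹ = M.e nn := by
      rw [← c.act_eq hRp hTR (hOR hw) hwT hx hxS _ c.a_zcT, Z.Dih.tt_a hx]
    obtain ⟨g, hg, hgn⟩ := exists_X c 1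
    have hga := (X_cen c hg).1
    obtain ⟨u, hu⟩ : ∃ u, u = (g * w * g⁻¹)⁻¹ * w := ⟨_, rfl⟩
    have huO : u ∈ o2 N := by rw [hu]; exact mul_mem (inv_mem (hOn (hX hg) hw)) hw
    have hun : u * M.e nn * u⁻¹ = M.e (lv 1) := by
      have e1 : g⁻¹ * M.e aa * g = M.e aa := by rw [mul_assoc, ← hga]; group
      have e2 : w⁻¹ * M.e aa * w = M.e nn := by rw [← a1]; group
      calc u * M.e nn * u⁻¹ = g * (w⁻¹ * (g⁻¹ * (w * M.e nn * w⁻¹) * g) * w) * g⁻¹ := by rw [hu]; group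
        _ = M.e (lv 1) := by rw [a1, e1, e2, hgn]
    by_cases huT : u ∈ TS S M
    · have h1 : u * M.e nn * u⁻¹ = M.e (lv 0) := by rw [mem_C.1 huT.2, mul_inv_cancel_right]; rfl
      rw [hun] at h1
      have := e_lv_inj M h1
      revert this; decide
    · have h1 : u * M.e nn * u⁻¹ = M.e aa := by
        rw [← c.act_eq hRp hTR (hOR huO) huT hx hxS _ c.n_zcT, Z.Dih.tt_n hx]
      rw [hun, M.e_eq_iff] at h1
      revert h1; decide
  intro w hw
  rw [mem_centralizer_iff]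
  rintro v (rfl | ⟨i, rfl⟩)
  · rw [mul_one, one_mul]
  · obtain ⟨g, hg, hgn⟩ := exists_X c i
    have h1 : g⁻¹ * w * g ∈ o2 N := by
      have := hOn (inv_mem (hX hg)) hw
      rwa [inv_inv] at this
    have h2 := mem_C.1 (hOT h1).2
    rw [← hgn]
    calc g * M.e nn * g⁻¹ * w = g * (M.e nn * (g⁻¹ * w * g)) * g⁻¹ := by group
      _ = g * (g⁻¹ * w * g * M.e nn) * g⁻¹ := by rw [h2]
      _ = w * (g * M.e nn * g⁻¹) := by group

/-- **the instance** -/
theorem htt : HTT (TS S M) (PP S M) (LV M) (R M) 0 where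
  toBT := bt' c
  card_R := Line.card_R M
  char2 := c.b.two
  S_p := c.T_p
  S_odd := by rw [normR]; exact c.b.not_dvd
  S_V := T_norm c
  S_R := by rw [normR]; exact inf_le_right
  S_P := le_sup_left
  P_V := sup_le (T_norm c) (bt' c).X_le_NV
  P_trans := by
    intro i
    obtain ⟨g, hg, h⟩ := (bt' c).trans_X_one 0 i
    exact ⟨g, (le_sup_right : XX (LV M) (R M) ≤ PP S M) hg, h⟩
  P_Z := by
    intro x hx z hz
    obtain ⟨hxa, hxv⟩ := P_cen c hx
    have hxN : x ∈ normalizer (LV M : Set G) := (sup_le (T_norm c) (bt' c).X_le_NV : PP S M ≤ _) hx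
    have hn : M.e nn ∈ LV M := lv_mem M 0
    have hn' : x * M.e nn * x⁻¹ ∈ LV M := BTwo.conj_mem_of_normalizer hxN hn
    have hnn : x * M.e nn * x⁻¹ * (M.e nn)⁻¹ ∈ LV M := mul_mem hn' (inv_mem hn)
    obtain ⟨v, hv, h1⟩ := c.zT z hz
    have hxv' : x * v * x⁻¹ = v := by rw [hxv v hv, mul_inv_cancel_right]
    have hxa' : x * M.e aa * x⁻¹ = M.e aa := by rw [hxa, mul_inv_cancel_right]
    have hvA : ∀ y, v * M.e y = M.e y * v := fun y => (c.V0L _ (c.A_le_L hv (M.e_mem y)) v hv).symm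
    rcases h1 with rfl | rfl | rfl | rfl
    · rw [hxv', mul_inv_cancel]; exact one_mem _
    · have e1 : x * (v * M.e nn) * x⁻¹ * (v * M.e nn)⁻¹ = x * M.e nn * x⁻¹ * (M.e nn)⁻¹ := by
        have h2 : v * (x * M.e nn * x⁻¹) = x * M.e nn * x⁻¹ * v := by
          obtain ⟨y, hy⟩ := (M.mem_iff _).1 (LV_le M hn')
          rw [← hy]; exact hvA y
        calc x * (v * M.e nn) * x⁻¹ * (v * M.e nn)⁻¹ = (x * v * x⁻¹) * (x * M.e nn * x⁻¹) * (M.e nn)⁻¹ * v⁻¹ := by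
              group
          _ = (x * M.e nn * x⁻¹) * (v * (M.e nn)⁻¹) * v⁻¹ := by rw [hxv', h2]; group
          _ = (x * M.e nn * x⁻¹) * (M.e nn)⁻¹ := by rw [M.e_inv, hvA]; group
      rw [e1]; exact hnn
    · have e1 : x * (v * M.e aa) * x⁻¹ * (v * M.e aa)⁻¹ = 1 := by
        have e2 : x * (v * M.e aa) * x⁻¹ = (x * v * x⁻¹) * (x * M.e aa * x⁻¹) := by group
        rw [e2, hxv', hxa', mul_inv_cancel]
      rw [e1]; exact one_mem _
    · have e1 : x * (v * M.e ss) * x⁻¹ * (v * M.e ss)⁻¹ = x * M.e nn * x⁻¹ * (M.e nn)⁻¹ := by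
        have h2 : v * M.e aa * (x * M.e nn * x⁻¹) = x * M.e nn * x⁻¹ * (v * M.e aa) := by
          obtain ⟨y, hy⟩ := (M.mem_iff _).1 (LV_le M hn')
          rw [← hy]
          calc v * M.e aa * M.e y = v * (M.e aa * M.e y) := by group
            _ = (v * M.e y) * M.e aa := by rw [M.e_comm]; group
            _ = M.e y * (v * M.e aa) := by rw [hvA]; group
        have h3 : v * M.e ss = v * M.e aa * M.e nn := by rw [mul_assoc, M.e_comm aa nn, na]
        rw [h3]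
        calc x * (v * M.e aa * M.e nn) * x⁻¹ * (v * M.e aa * M.e nn)⁻¹ =
              (x * v * x⁻¹) * (x * M.e aa * x⁻¹) * (x * M.e nn * x⁻¹) * (M.e nn)⁻¹ * (v * M.e aa)⁻¹ := by
              group
          _ = v * M.e aa * (x * M.e nn * x⁻¹) * (M.e nn)⁻¹ * (v * M.e aa)⁻¹ := by rw [hxv', hxa']
          _ = (x * M.e nn * x⁻¹) * (v * M.e aa * M.e nn) * (v * M.e aa)⁻¹ := by rw [h2, M.e_inv]; group
          _ = (x * M.e nn * x⁻¹) * (M.e nn * (v * M.e aa)) * (v * M.e aa)⁻¹ := by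
              have h4 : v * M.e aa * M.e nn = M.e nn * (v * M.e aa) := by
                calc v * M.e aa * M.e nn = v * (M.e nn * M.e aa) := by rw [mul_assoc, M.e_comm aa nn]
                  _ = (v * M.e nn) * M.e aa := by group
                  _ = M.e nn * (v * M.e aa) := by rw [hvA]; group
              rw [h4]
          _ = x * M.e nn * x⁻¹ * (M.e nn)⁻¹ := by rw [M.e_inv]; group
      rw [e1]; exact hnn
  loc := fun N hS hX _ _ => loc c hS hX

/-! ### `Z₀ = V₀ ⟨a⟩` -/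

theorem V0_Z0 {v : G} (hv : v ∈ V₀) : v ∈ zc (TS S M) ⊓ centralizer (PP S M : Set G) :=
  ⟨c.V0_zcT hv, mem_centralizer_iff.2 fun _ hg => (P_cen c hg).2 v hv⟩

theorem a_Z0 : M.e aa ∈ zc (TS S M) ⊓ centralizer (PP S M : Set G) :=
  ⟨c.a_zcT, mem_centralizer_iff.2 fun _ hg => (P_cen c hg).1⟩

theorem va_Z0 {v : G} (hv : v ∈ V₀) : v * M.e aa ∈ zc (TS S M) ⊓ centralizer (PP S M : Set G) :=
  mul_mem (V0_Z0 c hv) (a_Z0 c)

/-- `n ∉ C(X)` -/
theorem n_not_X : ∃ g ∈ XX (LV M) (R M), g * M.e nn ≠ M.e nn * g := by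
  obtain ⟨g, hg, hgn⟩ := exists_X c 1
  refine ⟨g, hg, fun h => ?_⟩
  rw [h, mul_inv_cancel_right] at hgn
  have := e_lv_inj M (i := 0) (j := 1) hgn
  revert this; decide

/-- the elements of `Ω₁(Z(T))` centralised by `X` -/
theorem of_zcT {z : G} (hz : z ∈ zc (TS S M)) (hX : ∀ g ∈ XX (LV M) (R M), g * z = z * g) :
    ∃ v ∈ V₀, z = v ∨ z = v * M.e aa := by
  obtain ⟨g, hg, hgn⟩ := n_not_X c
  obtain ⟨hga, hgv⟩ := X_cen c hg
  obtain ⟨v, hv, h1⟩ := c.zT z hz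
  have h2 := hX g hg
  have hgv' := hgv v hv
  rcases h1 with h1 | h1 | h1 | h1
  · exact ⟨v, hv, Or.inl h1⟩
  · exfalso
    apply hgn
    rw [h1] at h2
    apply mul_left_cancel (a := v)
    calc v * (g * M.e nn) = (v * g) * M.e nn := by group
      _ = g * (v * M.e nn) := by rw [← hgv']; group
      _ = v * (M.e nn * g) := by rw [h2]; group
  · exact ⟨v, hv, Or.inr h1⟩
  · exfalso
    apply hgn
    have h3 : v * M.e ss = v * M.e aa * M.e nn := by rw [mul_assoc, M.e_comm aa nn, na]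
    rw [h1, h3] at h2
    have h4 : g * (v * M.e aa) = v * M.e aa * g := by
      calc g * (v * M.e aa) = (g * v) * M.e aa := by group
        _ = v * (g * M.e aa) := by rw [hgv']; group
        _ = v * M.e aa * g := by rw [hga]; group
    apply mul_left_cancel (a := v * M.e aa)
    calc v * M.e aa * (g * M.e nn) = (v * M.e aa * g) * M.e nn := by group
      _ = g * (v * M.e aa * M.e nn) := by rw [← h4]; group
      _ = v * M.e aa * (M.e nn * g) := by rw [h2]; group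

/-- **`Z₀ = V₀ ⟨a⟩`** -/
theorem mem_Z0 {z : G} : z ∈ zc (TS S M) ⊓ centralizer (PP S M : Set G) ↔ ∃ v ∈ V₀, z = v ∨ z = v * M.e aa := by
  constructor
  · rintro ⟨h1, h2⟩
    exact of_zcT c h1 fun g hg => mem_centralizer_iff.1 h2 g ((le_sup_right : XX (LV M) (R M) ≤ PP S M) hg)
  · rintro ⟨v, hv, rfl | rfl⟩
    · exact V0_Z0 c hv
    · exact va_Z0 c hv

theorem hr : ∀ x, x ∈ R M 0 ↔ x = 1 ∨ x = M.e nn := fun _ => mem_R M

theorem a_ne_v {v : G} (hv : v ∈ V₀) : v ≠ M.e aa := by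
  rintro rfl
  exact c.not_zcS_a (one_mem V₀) (by rw [one_mul]; exact c.V0_zcS hv)

/-- two elements of `Z₀` -/
theorem exists_two : ∃ x ∈ zc (TS S M) ⊓ centralizer (PP S M : Set G),
    ∃ y ∈ zc (TS S M) ⊓ centralizer (PP S M : Set G), x ≠ 1 ∧ y ≠ 1 ∧ x ≠ y := by
  obtain ⟨v, hv, hv1⟩ : ∃ v ∈ V₀, v ≠ 1 := by
    by_contra h
    push Not at h
    exact c.ne ((eq_bot_iff_forall _).2 h)
  exact ⟨v, V0_Z0 c hv, M.e aa, a_Z0 c, hv1, a_ne M, a_ne_v c hv⟩

/-! ### `T` has odd index -/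

theorem odd_le {H : Subgroup G} {v : G} (hv : v ∈ V₀) (hT : TS S M ≤ H)
    (hH : H ≤ centralizer ({v * M.e aa} : Set G)) : ¬ 2 ∣ (TS S M).relIndex H := by
  intro h
  refine c.odd_cen (mul_mem (c.V0_zcT hv) c.a_zcT) (c.not_zcS_a hv) (h.trans ?_)
  exact ⟨_, (relIndex_mul_relIndex _ _ _ hT hH).symm⟩

theorem T_le_MZ : TS S M ≤ JunAB.MZ (TS S M) (LV M) (R M) := by
  refine le_trans ?_ le_sup_left
  intro t ht
  exact mem_centralizer_iff.2 fun z hz => ((mem_zc.1 hz).2.1 t ht).symm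

theorem odd_MZ : ¬ 2 ∣ (TS S M).relIndex (JunAB.MZ (TS S M) (LV M) (R M)) := by
  refine odd_le c (one_mem V₀) (T_le_MZ c) ?_
  have h1 := a_Z0 c
  rw [one_mul]
  exact JunAB.MZ_le (htt c) h1

theorem odd_MP {v : G} (hv : v ∈ V₀) :
    ¬ 2 ∣ (TS S M).relIndex (HTwo.AlphaP.MP (LV M) (R M) 0 (v * M.e aa)) := by
  have h1 := va_Z0 c hv
  refine odd_le c hv ?_ ?_
  · refine le_trans ?_ le_sup_left
    refine le_inf (htt c).S_R ?_
    intro t ht
    exact mem_C.2 ((mem_zc.1 h1.1).2.1 t ht)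
  · exact sup_le inf_le_right ((htt c).X_le_cen h1)

/-- `A` commutes with `⟨n^{C(v a n)}⟩` -/
theorem hyV {v : G} (hv : v ∈ V₀) : ∀ g : G, g * (v * M.e aa * M.e nn) = v * M.e aa * M.e nn * g →
    ∀ w ∈ LV M, w * (g * M.e nn * g⁻¹) = g * M.e nn * g⁻¹ * w := by
  intro g hg w hw
  have h3 : v * M.e aa * M.e nn = v * M.e ss := by rw [mul_assoc, M.e_comm aa nn, na]
  rw [h3] at hg
  exact c.comm_s hv hg (LV_le M hw) (M.e_mem _)

/-! ### LEMMA E -/

omit [Finite G] c in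
/-- `⟨r^{C(e)}⟩` is abelian -/
def AG (r e : G) : Prop := ∀ g : G, g * e = e * g → r * (g * r * g⁻¹) = g * r * g⁻¹ * r

omit [Finite G] c in
theorem AG.comm {r e : G} (h : AG r e) {g g' : G} (hg : g * e = e * g) (hg' : g' * e = e * g') :
    g * r * g⁻¹ * (g' * r * g'⁻¹) = g' * r * g'⁻¹ * (g * r * g⁻¹) := by
  have h1 : g⁻¹ * g' * e = e * (g⁻¹ * g') := by
    have : g⁻¹ * e = e * g⁻¹ := by rw [inv_mul_eq_iff_eq_mul, ← mul_assoc, hg, mul_inv_cancel_right]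
    rw [mul_assoc, hg', ← mul_assoc, this, mul_assoc]
  have h2 := h _ h1
  calc g * r * g⁻¹ * (g' * r * g'⁻¹) = g * (r * (g⁻¹ * g' * r * (g⁻¹ * g')⁻¹)) * g⁻¹ := by group
    _ = g * (g⁻¹ * g' * r * (g⁻¹ * g')⁻¹ * r) * g⁻¹ := by rw [h2]
    _ = g' * r * g'⁻¹ * (g * r * g⁻¹) := by group

omit [Finite G] c in
/-- `V^k` consists of conjugates of `r` under `C(e)`, if `e` centralises `X^k` -/
theorem cj_conj {ι : Type*} {V : Subgroup G} {R : ι → Subgroup G} (b : BT V R) {i : ι} {r : G}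
    (hr : ∀ x ∈ R i, x = 1 ∨ x = r) {e k : G} (hk : k * r = r * k)
    (h : e ∈ centralizer (BTwo.cj k (XX V R) : Set G)) {w : G} (hw : w ∈ BTwo.cj k V) :
    w = 1 ∨ ∃ m, m * e = e * m ∧ w = m * r * m⁻¹ := by
  obtain ⟨v, hv, rfl⟩ := hw
  change k * v * k⁻¹ = 1 ∨ ∃ m, m * e = e * m ∧ k * v * k⁻¹ = m * r * m⁻¹
  obtain ⟨j, hj⟩ := b.R_cov v hv
  obtain ⟨x, hx, e1⟩ := b.trans_X_one i j
  rw [← e1, BTwo.mem_cj] at hj
  rcases hr _ hj with h0 | h0
  · left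
    have h1 : v = 1 := by
      have := congrArg (fun y => x * y * x⁻¹) h0
      simp only [mul_one, mul_inv_cancel] at this
      rw [← this]; group
    rw [h1, mul_one, mul_inv_cancel]
  · right
    have h1 : v = x * r * x⁻¹ := by rw [← h0]; group
    refine ⟨k * x * k⁻¹, mem_centralizer_iff.1 h _ (BTwo.conj_mem_cj hx), ?_⟩
    calc k * v * k⁻¹ = (k * x * k⁻¹) * (k * r * k⁻¹) * (k * x * k⁻¹)⁻¹ := by rw [h1]; group
      _ = (k * x * k⁻¹) * r * (k * x * k⁻¹)⁻¹ := by rw [hk]; group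

omit c in
/-- **LEMMA E over `T`**, `⟨r^{C(e)}⟩` abelian -/
theorem le_T {ι : Type*} {V : Subgroup G} {R : ι → Subgroup G} (b : BTS V R) {i : ι} {r : G}
    (hr : ∀ x ∈ R i, x = 1 ∨ x = r) (hri : r ∈ R i)
    {T : Subgroup G} (hT : IsPGroup 2 T) (hTV : T ≤ normalizer (V : Set G))
    (hTR : T ≤ normalizer (R i : Set G)) (hodd : ¬ 2 ∣ T.relIndex (normalizer (R i : Set G)))
    (hnc : ∃ k ∈ normalizer (R i : Set G), ∃ v ∈ V, ∃ w ∈ BTwo.cj k V, v * w ≠ w * v)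
    (hdec : ∀ e ∈ T, e ≠ 1 → e * e = 1 → (∀ t ∈ T, e * t = t * e) → e ∈ CenX V R →
      AG r e ∧ AG r (r * e)) (j : ι) :
    LE V R j := by
  refine le_all b.toBT (i := i) (fun Λ hΛ hN => ?_) j
  by_contra hΛR
  set K := normalizer (R i : Set G) with hK
  have hr1 : r ≠ 1 := by
    rintro rfl
    refine b.R_ne i ((eq_bot_iff_forall _).2 fun x hx => ?_)
    rcases hr x hx with h | h <;> exact h
  have hKr : ∀ k ∈ K, k * r = r * k := by
    intro k hk
    have h1 := BTwo.conj_mem_of_normalizer hk hri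
    rcases hr _ h1 with h | h
    · exfalso
      apply hr1
      have := congrArg (fun y => k⁻¹ * y * k) h
      simp only [mul_one, inv_mul_cancel] at this
      rw [← this]; group
    · rw [mul_inv_eq_iff_eq_mul] at h
      exact h
  -- `E = R i Λ`
  set E := R i ⊔ Λ with hE
  have hKE : K ≤ normalizer (E : Set G) := by
    intro k hk
    rw [← cj_eq_self_iff, hE, cj_sup, cj_eq_self_iff.2 hk, cj_eq_self_iff.2 (hN hk)]
  have hEm : ∀ l ∈ E, ∃ a ∈ R i, a * l ∈ CenX V R := by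
    intro l hl
    have h1 : E ≤ Cfsg.Agent.Omega.HTwo.Par.RC b.toBT i := by
      refine sup_le (fun a ha => ⟨a⁻¹, inv_mem ha, ?_⟩) hΛ
      rw [inv_mul_cancel]
      exact one_mem _
    exact h1 hl
  -- elements of `E` modulo `X^k`
  have hEk : ∀ k ∈ K, ∀ e ∈ E, e ∈ centralizer (BTwo.cj k (XX V R) : Set G) ∨
      r * e ∈ centralizer (BTwo.cj k (XX V R) : Set G) := by
    intro k hk e he
    have h1 : k⁻¹ * e * k ∈ E := BTwo.conj_inv_mem_of_normalizer (hKE hk) he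
    obtain ⟨a, ha, h2⟩ := hEm _ h1
    rw [centralizer_cj, BTwo.mem_cj, BTwo.mem_cj]
    rcases hr a ha with rfl | rfl
    · rw [one_mul] at h2
      exact Or.inl h2
    · right
      have h3 : k⁻¹ * (a * e) * k = a * (k⁻¹ * e * k) := by
        have h4 : k⁻¹ * a = a * k⁻¹ := by
          rw [inv_mul_eq_iff_eq_mul, ← mul_assoc, hKr k hk, mul_inv_cancel_right]
        calc k⁻¹ * (a * e) * k = (k⁻¹ * a) * e * k := by group
          _ = _ := by rw [h4]; group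
      rw [h3]; exact h2
  have hE0 : E ⊓ CenX V R ≠ ⊥ := by
    intro h
    apply hΛR
    intro x hx
    obtain ⟨a, ha, hm⟩ := hΛ x hx
    have h1 : a * x ∈ E ⊓ CenX V R :=
      ⟨mul_mem ((le_sup_left : R i ≤ E) ha) ((le_sup_right : Λ ≤ E) hx), hm⟩
    rw [h, mem_bot, mul_eq_one_iff_eq_inv] at h1
    have h2 : x = a⁻¹ := by rw [h1, inv_inv]
    rw [h2]; exact inv_mem ha
  have hTE : T ≤ normalizer ((E ⊓ CenX V R : Subgroup G) : Set G) := by
    intro s hs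
    have h1 := b.NV_le_NCenX (hTV hs)
    rw [← cj_eq_self_iff, cj_inf, cj_eq_self_iff.2 (hKE (hTR hs)), cj_eq_self_iff.2 h1]
  have hE2 : IsPGroup 2 (E ⊓ CenX V R : Subgroup G) := b.CenX_isPGroup.to_le inf_le_right
  have hEK : E ⊓ CenX V R ≤ K := by
    refine inf_le_right.trans ?_
    refine (b.CenX_le_cen.trans (centralizer_le (b.R_le i))).trans (centralizer_le_normalizer _)
  have hET := LemE.le_of_odd hT hTR hodd hE2 hEK hTE
  obtain ⟨e, he, he1, hee, heT⟩ := LemE.exists_inv hT hE0 hET hTE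
  obtain ⟨k0, hk0, v0, hv0, w0, hw0, hne⟩ := hnc
  obtain ⟨g1, g2⟩ := hdec e (hET he) he1 hee heT he.2
  have key : ∀ f : G, AG r f → ∀ k ∈ K, ∀ l ∈ K, f ∈ centralizer (BTwo.cj k (XX V R) : Set G) →
      f ∈ centralizer (BTwo.cj l (XX V R) : Set G) → ∀ a ∈ BTwo.cj k V, ∀ c ∈ BTwo.cj l V, a * c = c * a := by
    intro f hf k hk l hl h1 h2 a ha c hc
    rcases cj_conj b.toBT hr (hKr k hk) h1 ha with rfl | ⟨m, hm, rfl⟩
    · rw [mul_one, one_mul]
    rcases cj_conj b.toBT hr (hKr l hl) h2 hc with rfl | ⟨m', hm', rfl⟩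
    · rw [mul_one, one_mul]
    exact hf.comm hm hm'
  refine hne (LemE.commute_of_bipartite hTV hodd
    (fun L => ∀ k ∈ K, BTwo.cj k V = L → e ∈ centralizer (BTwo.cj k (XX V R) : Set G)) ?_ ?_ k0 hk0 v0 hv0 w0 hw0)
  · intro k hk l hl h1 h2 a ha c hc'
    exact key e g1 k hk l hl (h1 k hk rfl) (h2 l hl rfl) a ha c hc'
  · have key' : ∀ k ∈ K, ¬ (∀ k' ∈ K, BTwo.cj k' V = BTwo.cj k V → e ∈ centralizer (BTwo.cj k' (XX V R) : Set G)) →
        ∃ k' ∈ K, BTwo.cj k' V = BTwo.cj k V ∧ r * e ∈ centralizer (BTwo.cj k' (XX V R) : Set G) := by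
      intro k hk h
      push Not at h
      obtain ⟨k', hk', e1, hne⟩ := h
      exact ⟨k', hk', e1, (hEk k' hk' e he.1).resolve_left hne⟩
    intro k hk l hl h1 h2 a ha c hc'
    obtain ⟨k', hk', e1, h3⟩ := key' k hk h1
    obtain ⟨l', hl', e2, h4⟩ := key' l hl h2
    rw [← e1] at ha
    rw [← e2] at hc'
    exact key (r * e) g2 k' hk' l' hl' h3 h4 a ha c hc'

/-- `r ∈ Z(O₂(C(e)))` -/
theorem AG_of {r e : G} (h1 : r ∈ Q e) (h2 : ∀ q ∈ Q e, q * r = r * q) : AG r e := by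
  intro g hg
  have h3 : g * r * g⁻¹ ∈ Q e := (mem_normalizer_iff.1 (le_normalizer_o2 _ (mem_C.2 hg)) _).1 h1
  exact (h2 _ h3).symm

/-- **LEMMA E** -/
theorem hLE : ∀ i, LE (LV M) (R M) i := by
  have b := htt c
  have hV0n : ∀ v ∈ V₀, M.e nn * v = v * M.e nn := fun v hv => c.V0L _ (c.A_le_L hv (M.e_mem _)) v hv
  refine le_T b.toBTS (i := 0) (r := M.e nn) (fun x hx => (mem_R M).1 hx) (gen_mem M 0) c.T_p (T_norm c) b.S_R
    b.S_odd ?_ ?_
  · refine ⟨k, ?_, M.e (lv 1), lv_mem M 1, k * M.e (lv 1) * k⁻¹, BTwo.conj_mem_cj (lv_mem M 1), fun h => ?_⟩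
    · rw [normR]; exact mem_C.2 c.b.hn
    · have h1 := ((ind_k c.b (y := lv 1) (by decide)).commute_iff (lv 1)).1 h.symm
      revert h1; decide
  · intro e heT he1 hee heT' heX
    have hez : e ∈ zc (TS S M) := mem_zc.2 ⟨heT, fun t ht => (heT' t ht).symm, by rw [pow_two]; exact hee⟩
    obtain ⟨v, hv, h1⟩ := of_zcT c hez fun g hg => mem_centralizer_iff.1 heX g hg
    rcases h1 with rfl | rfl
    · obtain ⟨h1, h2⟩ := c.comm_V0 hv he1 (M.e_mem nn)
      obtain ⟨h3, h4⟩ := c.comm_n hv (x := nn) (by decide)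
      refine ⟨AG_of c h1 h2, ?_⟩
      rw [hV0n _ hv]
      exact AG_of c h3 h4
    · obtain ⟨h1, h2⟩ := c.comm_a hv (x := nn) (by decide)
      refine ⟨AG_of c h1 h2, ?_⟩
      have h3 : M.e nn * (v * M.e aa) = v * M.e ss := by
        calc M.e nn * (v * M.e aa) = (M.e nn * v) * M.e aa := by group
          _ = v * (M.e nn * M.e aa) := by rw [hV0n _ hv]; group
          _ = v * M.e ss := by rw [na]
      rw [h3]
      exact fun g hg => c.comm_s hv hg (M.e_mem _) (M.e_mem _)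

end Cfsg.Agent.Omega.F4Leaf.OT.Inst

end

section


/-!
# LeafF4 (O1), #18759: the `Σ`-step

* `Sg.exists_move` : `X` moves `n` to `e {0, 4}`;
* `Sg.cases` : `z ∈ Ω₁(Z(T)) ∩ C(X)` is `v` or `v a`, `v ∈ V₀`;
* `Sg.sig` : if `Sig z`, then `z = v a`.
-/

set_option autoImplicit false
set_option linter.unusedSectionVars false

namespace Cfsg.Agent.Omega.F4Leaf.OT.Sg

open Subgroup Cfsg
open Cfsg.Agent.ZN hiding mem_zc zc_le zc_comm zc_sq
open Cfsg.Agent.ZN.ChoiceBase hiding mem_zc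
open Cfsg.Agent.Omega.S5.Mod Cfsg.Agent.Omega.S5.TT Cfsg.Agent.Omega.TTn
open Cfsg.Agent.Omega.S5.TT.Pos (na ns as sn n_ne s_ne a_ne n_ne_a n_ne_s a_ne_s e_sq' mem_C)
open Cfsg.Agent.MinSimple.VModule (o2_isPGroup le_o2 o2_le le_normalizer_o2 o2_le_of_sylow
  normalizer_le_normalizer_zc le_centralizer_zc mem_zc zc_le zc_comm zc_sq)
open Cfsg.Agent.Omega.F4Leaf.OT.Tone (TS Cfg)
open Cfsg.Agent.Omega.F4Leaf.OT.Line (lv R LV bt mem_R normR QQ_zero gen_mem lv_mem mem_LV)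
open Cfsg.Agent.Omega.BTwo (BT XX WW QQ)
open Cfsg.Agent.Omega.HTwo.Hat (ZQ)

universe u

variable {G : Type u} [Group G] [Finite G] {S : Sylow 2 G} {A L : Subgroup G} {M : FiveMod A L} {k : G}
  {V₀ : Subgroup G}

theorem lv_zero : lv 0 = nn := rfl

/-- `X` moves `n` to `e {0, 4}` -/
theorem exists_move (c : Cfg S M k V₀) : ∃ x ∈ XX (LV M) (R M), x * M.e nn * x⁻¹ = M.e (lv 1) := by
  obtain ⟨x, hx, e⟩ := (bt c.b).trans_X_one 0 1
  refine ⟨x, hx, ?_⟩
  have h1 : x * M.e nn * x⁻¹ ∈ R M 1 := by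
    rw [← e]
    exact Cfsg.Agent.Omega.BTwo.conj_mem_cj (gen_mem M 0)
  rcases (mem_R M).1 h1 with h2 | h2
  · exfalso
    have h3 : M.e nn = 1 := by
      have h4 : M.e nn = x⁻¹ * (x * M.e nn * x⁻¹) * x := by group
      rw [h4, h2]; group
    exact n_ne M h3
  · exact h2

section vec

theorem l_one : lv 1 = ![1, 0, 0, 0, 1] := rfl

/-- `{0, 4}` and `n` are conjugate under `(1 4)` -/
theorem nn_move : nn ∘ (Equiv.swap 1 4 : Equiv.Perm (Fin 5)).symm = lv 1 := by decide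

theorem l_add : lv 1 + nn = (lv 2) := by decide

theorem l_two : (lv 2) ∘ (Equiv.swap 0 4 : Equiv.Perm (Fin 5)).symm = nn := by decide

theorem l_ss : ((lv 1) + ss) ∘ (Equiv.swap 0 4 : Equiv.Perm (Fin 5)).symm = ss := by decide

theorem nn_fix : nn ∘ (Equiv.swap 2 4 : Equiv.Perm (Fin 5)).symm = nn := by decide

/-- the vector `{2, 4}` -/
def tf : Vec := ![0, 0, 1, 0, 1]

theorem tf_eq : tf 0 = tf 1 := rfl

theorem l_move : ∀ i : Fin 3, lv i ∘ (Equiv.swap 2 4 : Equiv.Perm (Fin 5)).symm = lv i ∨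
    lv i ∘ (Equiv.swap 2 4 : Equiv.Perm (Fin 5)).symm = lv i + tf := by decide

theorem l_move_one : lv 1 ∘ (Equiv.swap 2 4 : Equiv.Perm (Fin 5)).symm = lv 1 + tf := by decide

end vec

/-- an element of `V₀ L`-conjugates -/
theorem conj_V0 (c : Cfg S M k V₀) {g v : G} {x : Vec} {p : Equiv.Perm (Fin 5)} (hg : g ∈ L) (hi : M.Ind g p)
    (hv : v ∈ V₀) : g * (v * M.e x) * g⁻¹ = v * M.e (x ∘ p.symm) := by
  have h1 := c.V0L g hg v hv
  calc g * (v * M.e x) * g⁻¹ = (g * v) * M.e x * g⁻¹ := by group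
    _ = v * (g * M.e x * g⁻¹) := by rw [h1]; group
    _ = _ := by rw [hi]

/-- no element `d` with `T` Sylow in `C(d)` is conjugate to an element centralised by `S` -/
theorem false_conj (c : Cfg S M k V₀) {d g : G} (hd : d ∈ zc (TS S M)) (hdS : d ∉ zc (S : Subgroup G))
    (h : ∀ s ∈ (S : Subgroup G), s * (g * d * g⁻¹) = g * d * g⁻¹ * s) : False := by
  have h1 := c.odd_cen hd hdS
  have hT : TS S M ≤ centralizer ({d} : Set G) := fun t ht => mem_C.2 ((mem_zc.1 hd).2.1 t ht)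
  have hS : ChoiceBase.cj g⁻¹ (S : Subgroup G) ≤ centralizer ({d} : Set G) := by
    rintro _ ⟨s, hs, rfl⟩
    refine mem_C.2 ?_
    have h2 := h s hs
    show g⁻¹ * s * g⁻¹⁻¹ * d = d * (g⁻¹ * s * g⁻¹⁻¹)
    calc g⁻¹ * s * g⁻¹⁻¹ * d = g⁻¹ * (s * (g * d * g⁻¹)) * g := by group
      _ = g⁻¹ * (g * d * g⁻¹ * s) * g := by rw [h2]
      _ = d * (g⁻¹ * s * g⁻¹⁻¹) := by group
  have h3 := HT.card_dvd_card hT h1 (S.isPGroup'.map _) hS
  have h4 := Nat.le_of_dvd Nat.card_pos h3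
  have h5 : Nat.card (ChoiceBase.cj g⁻¹ (S : Subgroup G) : Subgroup G) = Nat.card (S : Subgroup G) := card_cj _ _
  have h6 := c.b.card_S
  have h7 : 0 < Nat.card (TS S M) := Nat.card_pos
  change Nat.card (ChoiceBase.cj g⁻¹ (S : Subgroup G) : Subgroup G) ≤ _ at h4
  rw [h5] at h4
  have h8 : Nat.card (S : Subgroup G) = 2 * Nat.card (TS S M) := h6
  omega

/-- `z ∈ Ω₁(Z(T)) ∩ C(X)` is `v` or `v a` -/
theorem cases (c : Cfg S M k V₀) {z : G} (hz : z ∈ zc (TS S M))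
    (hzX : z ∈ centralizer (XX (LV M) (R M) : Set G)) : ∃ v ∈ V₀, z = v ∨ z = v * M.e aa := by
  obtain ⟨x, hx, hxn⟩ := exists_move c
  have hxz : x * z * x⁻¹ = z := by
    rw [mem_centralizer_iff.1 hzX x hx, mul_inv_cancel_right]
  obtain ⟨v, hv, h1 | h1 | h1 | h1⟩ := c.zT z hz
  · exact ⟨v, hv, Or.inl h1⟩
  · exfalso
    -- `v ∼ v e(1,4) ∼ v n`
    obtain ⟨g, hgL, hg⟩ := M.exists_lift (Equiv.swap 0 4)
    have hvn : v * M.e nn * M.e nn = v := by rw [mul_assoc, M.e_sq, mul_one]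
    have h2 : x * v * x⁻¹ = v * M.e (lv 2) := by
      calc x * v * x⁻¹ = (x * (v * M.e nn) * x⁻¹) * (x * M.e nn * x⁻¹) := by
            conv_lhs => rw [← hvn]
            group
        _ = v * M.e nn * M.e (lv 1) := by rw [← h1, hxz, hxn]
        _ = v * M.e (lv 2) := by rw [mul_assoc, ← M.e_add, add_comm, l_add]
    have h3 : (g * x) * v * (g * x)⁻¹ = v * M.e nn := by
      calc (g * x) * v * (g * x)⁻¹ = g * (x * v * x⁻¹) * g⁻¹ := by group
        _ = v * M.e ((lv 2) ∘ (Equiv.swap 0 4 : Equiv.Perm (Fin 5)).symm) := by rw [h2, conj_V0 c hgL hg hv]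
        _ = _ := by rw [l_two]
    refine false_conj c (g := (g * x)⁻¹) (mul_mem (c.V0_zcT hv) c.n_zcT) (c.not_zcS_n hv) fun s hs => ?_
    have h4 : (g * x)⁻¹ * (v * M.e nn) * (g * x)⁻¹⁻¹ = v := by rw [← h3]; group
    rw [h4]
    exact c.V0L s (c.S_le hs) v hv
  · exact ⟨v, hv, Or.inr h1⟩
  · exfalso
    -- `v a ∼ v e(0) ∼ v s`
    obtain ⟨g, hgL, hg⟩ := M.exists_lift (Equiv.swap 0 4)
    have hva : v * M.e aa = v * M.e ss * M.e nn := by rw [mul_assoc, sn]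
    have h2 : x * (v * M.e aa) * x⁻¹ = v * M.e (lv 1 + ss) := by
      calc x * (v * M.e aa) * x⁻¹ = (x * (v * M.e ss) * x⁻¹) * (x * M.e nn * x⁻¹) := by
            rw [hva]; group
        _ = v * M.e ss * M.e (lv 1) := by rw [← h1, hxz, hxn]
        _ = v * M.e (lv 1 + ss) := by rw [mul_assoc, ← M.e_add, add_comm]
    have h3 : (g * x) * (v * M.e aa) * (g * x)⁻¹ = v * M.e ss := by
      calc (g * x) * (v * M.e aa) * (g * x)⁻¹ = g * (x * (v * M.e aa) * x⁻¹) * g⁻¹ := by group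
        _ = v * M.e ((lv 1 + ss) ∘ (Equiv.swap 0 4 : Equiv.Perm (Fin 5)).symm) := by
            rw [h2, conj_V0 c hgL hg hv]
        _ = _ := by rw [l_ss]
    refine false_conj c (g := g * x) (mul_mem (c.V0_zcT hv) c.a_zcT) (c.not_zcS_a hv) fun s hs => ?_
    rw [h3]
    exact c.vs_S hv hs

theorem e_mem_ZQ (c : Cfg S M k V₀) (h1 : (1 : G) ∈ V₀) {x : Vec} (hx : x 0 = x 1) : M.e x ∈ ZQ (R M) 0 := by
  unfold ZQ
  rw [QQ_zero]
  have h2 := c.comm_n h1 hx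
  rw [one_mul] at h2
  exact ⟨h2.1, mem_centralizer_iff.2 h2.2⟩

/-- **the `Σ`-step** -/
theorem sig (c : Cfg S M k V₀) {z : G} (hz : z ∈ zc (TS S M))
    (hzX : z ∈ centralizer (XX (LV M) (R M) : Set G)) (hs : HT.Sig (LV M) (R M) 0 z) :
    ∃ v ∈ V₀, z = v * M.e aa := by
  obtain ⟨v, hv, h1 | h1⟩ := cases c hz hzX
  · exfalso
    obtain ⟨g, hgL, hg⟩ := M.exists_lift (Equiv.swap 2 4)
    have hgn : g * M.e nn = M.e nn * g := (FiveMod.Ind.commute_iff hg _).2 (Or.inl nn_fix)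
    have hgN : g ∈ normalizer (R M 0 : Set G) := by
      rw [normR, lv_zero]; exact mem_C.2 hgn
    have htf : M.e tf ∈ ZQ (R M) 0 := e_mem_ZQ c (one_mem _) tf_eq
    have hmem : ∀ i, M.e (lv i) ∈ LV M := lv_mem M
    have h2 := hs g hgN (by
      rintro w (rfl | ⟨i, rfl⟩)
      · rw [mul_one, mul_inv_cancel]; exact one_mem _
      · rw [hg]
        rcases l_move i with h | h
        · rw [h]; exact mem_sup_left (hmem i)
        · rw [h, M.e_add]
          exact mul_mem (mem_sup_left (hmem i)) (mem_sup_right htf)) (M.e (lv 1)) (hmem 1) (by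
      intro h
      rcases (mem_R M).1 h with h | h
      · exact absurd ((M.ker _).1 h) (by decide)
      · exact absurd (M.e_eq_iff.1 h) (by decide))
    have hgz : g * v = v * g := c.V0L g hgL v hv
    have hvw : M.e (lv 1) * v = v * M.e (lv 1) := c.V0L _ (c.A_le_L hv (M.e_mem _)) v hv
    have e1 : (M.e (lv 1) * z)⁻¹ * g * (M.e (lv 1) * z) * g⁻¹ = M.e tf := by
      rw [h1, hvw]
      calc (v * M.e (lv 1))⁻¹ * g * (v * M.e (lv 1)) * g⁻¹
          = (M.e (lv 1))⁻¹ * v⁻¹ * (g * v) * M.e (lv 1) * g⁻¹ := by group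
        _ = (M.e (lv 1))⁻¹ * (g * M.e (lv 1) * g⁻¹) := by rw [hgz]; group
        _ = M.e tf := by rw [hg, l_move_one, M.e_add, inv_mul_cancel_left]
    rw [e1] at h2
    rcases (mem_R M).1 h2 with h | h
    · exact absurd ((M.ker _).1 h) (by decide)
    · exact absurd (M.e_eq_iff.1 h) (by decide)
  · exact ⟨v, hv, h1⟩

end Cfsg.Agent.Omega.F4Leaf.OT.Sg

end

end

-- merged: Cfsg.Agent.Mrg.Omega.TTn.Z.Member
section

section


/-!
# #15257: the data of `Z/OmT.lean` for a member of type `S₅` (`V_P = V₀ × A`)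

* `dat` : `Def.Split S P 2 A ε` gives `OmT.Dat S M (cv S P) (zc (o2 P))` for every `M : FiveMod A P` with `Z.Dih S M`;
* `zT_le` : `Ω₁(Z(T)) ≤ Ω₁(Z(O₂(P)))`; `hB` : the input of `Z.Norm.exists_base`;
* `exists_base` : a mutual pair, `n` not 2-central, gives `Z.Base` with all data.
-/

set_option autoImplicit false
set_option linter.unusedSectionVars false

namespace Cfsg.Agent.Omega.TTn.Z.Member

open Subgroup Cfsg Cfsg.Agent.ZN Cfsg.Agent.ZN.ChoiceBase Cfsg.Agent.Omega.MinPar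
open Cfsg.Agent.Omega.FrameFF (cv)
open Cfsg.Agent.Omega.S5.Mod Cfsg.Agent.Omega.S5.TT
open Cfsg.Agent.Omega.S5.TT.Pos (na ns as sn n_ne s_ne a_ne n_ne_a n_ne_s a_ne_s e_sq' mem_C)
open Cfsg.Agent.Omega.S5.Def Cfsg.Agent.Omega.S5.Syl Cfsg.Agent.Omega.S5.Pair Cfsg.Agent.Omega.S5.Main
open Cfsg.Agent.Omega.F4Leaf.Def Cfsg.Agent.Omega.F4Leaf.App

universe u

variable {G : Type u} [Group G] [Finite G]

section one

variable (hG : IsCharacteristicTwoType G) {S : Sylow 2 G} {P A : Subgroup G}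
  {ε : (Fin (2 ^ 2 + 1) → ZMod 2) → G} (h : Split (S : Subgroup G) P 2 A ε) (hP : IsParS (S : Subgroup G) P)
include hG h hP

/-- `S ∩ C(A) = O₂(P)` -/
theorem mem_o2 {s : G} (hs : s ∈ (S : Subgroup G)) (hsA : s ∈ centralizer (A : Set G)) : s ∈ o2 P := by
  rw [← hP.inf_centralizer S hG]
  refine ⟨hs, mem_centralizer_iff.mpr fun v hv => ?_⟩
  obtain ⟨c, hc, a, ha, rfl⟩ := h.mul_eq hG hP hv
  have h1 := mem_centralizer_iff.mp hsA a ha
  calc c * a * s = c * (a * s) := by group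
    _ = c * s * a := by rw [h1, mul_assoc]
    _ = s * (c * a) := by rw [← h.comm (hP.le hs) hc, mul_assoc]

theorem o2_le_S : o2 P ≤ (S : Subgroup G) := by
  rw [← hP.inf_centralizer S hG]
  exact inf_le_left

theorem o2_le_cA : o2 P ≤ centralizer (A : Set G) := by
  rw [← hP.inf_centralizer S hG]
  exact inf_le_right.trans (centralizer_le h.A_le)

theorem big : Big (S : Subgroup G) P (cv (S : Subgroup G) P) A (zc (o2 P)) ε where
  ev := h.even
  fix0 := h.fix0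
  le := hP.le
  comm y hy y' hy' := MinSimple.VModule.zc_comm _ y hy y' hy'
  sq y hy := by rw [← pow_two]; exact (MinSimple.VModule.mem_zc.mp hy).2.2
  ge := h.A_le.trans (hP.isLoc.zl_le S hG)
  nrm g hg y hy := (mem_normalizer_iff.mp (MinSimple.VModule.normalizer_le_normalizer_zc _ (MinSimple.VModule.le_normalizer_o2 P hg)) y).mp hy
  syl s hs hsA := by
    rw [mem_centralizer_iff]
    intro y hy
    exact ((MinSimple.VModule.mem_zc.mp hy).2.1 s (mem_o2 hG h hP hs hsA)).symm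
  cz v hv g hg := h.comm hg hv
  fixed y hy hys := by
    have h1 : y ∈ zc (S : Subgroup G) := MinSimple.VModule.mem_zc.mpr ⟨o2_le_S hG h hP (MinSimple.VModule.mem_zc.mp hy).1, hys, (MinSimple.VModule.mem_zc.mp hy).2.2⟩
    rcases h.zc_mul hG hP (by norm_num) h1 with h2 | h2
    · exact ⟨y, h2, Or.inl rfl⟩
    · refine ⟨_, h2, Or.inr ?_⟩
      rw [mul_assoc, h.even.sq, mul_one]

/-- the vector fixed by `S` -/
theorem ss_eq (M : FiveMod A P) (t : Z.Dih S M) : M.e ss = ε (Pi.single 0 1) := by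
  rcases S5.Syl.fixed (by norm_num) h.even hP.le (MinSimple.Basic.not_dvd_relIndex S hP.le) h.fix0 (M.e_mem ss)
    (fun s hs => t.S_comm hs) with h1 | h1
  · exact absurd h1 (s_ne M)
  · exact h1

/-- **the data of `OmT`** -/
theorem dat (M : FiveMod A P) (t : Z.Dih S M) : OmT.Dat S M (cv (S : Subgroup G) P) (zc (o2 P)) where
  dih := t
  OmS := (MinSimple.VModule.zc_le _).trans (o2_le_S hG h hP)
  Omc x hx y hy := MinSimple.VModule.zc_comm _ x hx y hy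
  Om2 x hx := by rw [← pow_two]; exact (MinSimple.VModule.mem_zc.mp hx).2.2
  OmL := (MinSimple.VModule.le_normalizer_o2 P).trans (MinSimple.VModule.normalizer_le_normalizer_zc _)
  AOm := h.A_le.trans (hP.isLoc.zl_le S hG)
  cen g hg hgA x hx := by
    have h1 := (big hG h hP).cen (MinSimple.Basic.not_dvd_relIndex S hP.le) S.isPGroup' hg hgA
    exact (mem_centralizer_iff.1 h1 x hx).symm
  V0Om := (inf_le_left : cv (S : Subgroup G) P ≤ zl (S : Subgroup G) P).trans (hP.isLoc.zl_le S hG)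
  V0L g hg v hv := h.comm hg hv
  zS z hz := by
    rcases h.zc_mul hG hP (by norm_num) hz with h2 | h2
    · exact ⟨z, h2, Or.inl rfl⟩
    · refine ⟨_, h2, Or.inr ?_⟩
      rw [ss_eq hG h hP M t, mul_assoc, h.even.sq, mul_one]

/-- `Ω₁(Z(T)) ≤ Ω₁(Z(O₂(P)))` -/
theorem zT_le (M : FiveMod A P) : zc ((S : Subgroup G) ⊓ centralizer ({M.e nn} : Set G)) ≤ zc (o2 P) := by
  have h1 : o2 P ≤ (S : Subgroup G) ⊓ centralizer ({M.e nn} : Set G) := by
    refine le_inf (o2_le_S hG h hP) fun q hq => mem_C.2 ?_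
    exact (mem_centralizer_iff.1 (o2_le_cA hG h hP hq) _ (M.e_mem nn)).symm
  intro d hd
  obtain ⟨h2, h3, h4⟩ := MinSimple.VModule.mem_zc.1 hd
  refine MinSimple.VModule.mem_zc.2 ⟨hP.isLoc.char2 S hG ⟨hP.le h2.1, ?_⟩, fun b hb => h3 b (h1 hb), h4⟩
  exact mem_centralizer_iff.2 fun b hb => h3 b (h1 hb)

/-- `Ω₁(Z(T)) = V₀ {1, n, a, s}` -/
theorem zT (M : FiveMod A P) (t : Z.Dih S M) : ∀ d ∈ zc ((S : Subgroup G) ⊓ centralizer ({M.e nn} : Set G)),
    ∃ v ∈ cv (S : Subgroup G) P, d = v ∨ d = v * M.e nn ∨ d = v * M.e aa ∨ d = v * M.e ss :=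
  Nc.zT (dat hG h hP M t) (zT_le hG h hP M)

/-- the input of `exists_base` -/
theorem hB (M : FiveMod A P) (t : Z.Dih S M) :
    ∀ b ∈ zc ((S : Subgroup G) ⊓ centralizer ({M.e nn} : Set G)), ∀ g ∈ (S : Subgroup G),
      g * b * g⁻¹ = b ∨ g * b * g⁻¹ = b * M.e ss := by
  intro b hb g hg
  obtain ⟨v, hv, h1⟩ := zT hG h hP M t b hb
  have hgv : g * v * g⁻¹ = v := by rw [h.comm (hP.le hg) hv, mul_inv_cancel_right]
  have hc : ∀ y, g * (v * y) * g⁻¹ = v * (g * y * g⁻¹) := by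
    intro y
    calc g * (v * y) * g⁻¹ = (g * v * g⁻¹) * (g * y * g⁻¹) := by group
      _ = _ := by rw [hgv]
  obtain ⟨x, hxS, hx⟩ := t.exists_swap
  -- `g` or `g x` centralises `n` and `a`
  have key : (g * M.e nn * g⁻¹ = M.e nn ∧ g * M.e aa * g⁻¹ = M.e aa) ∨
      (g * M.e nn * g⁻¹ = M.e aa ∧ g * M.e aa * g⁻¹ = M.e nn) := by
    rcases t.mem_or hxS hx hg with h2 | h2
    · left
      have e1 : g * M.e nn = M.e nn * g := mem_C.1 h2.2
      have e2 := t.T_comm_a h2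
      rw [e1, e2, mul_inv_cancel_right, mul_inv_cancel_right]
      exact ⟨rfl, rfl⟩
    · right
      have e1 : g * x * M.e nn = M.e nn * (g * x) := mem_C.1 h2.2
      have e2 := t.T_comm_a h2
      constructor
      · calc g * M.e nn * g⁻¹ = g * (x * M.e aa * x⁻¹) * g⁻¹ := by rw [Dih.tt_a hx]
          _ = (g * x * M.e aa) * (g * x)⁻¹ := by group
          _ = M.e aa := by rw [e2, mul_inv_cancel_right]
      · calc g * M.e aa * g⁻¹ = g * (x * M.e nn * x⁻¹) * g⁻¹ := by rw [Dih.tt_n hx]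
          _ = (g * x * M.e nn) * (g * x)⁻¹ := by group
          _ = M.e nn := by rw [e1, mul_inv_cancel_right]
  have hgs : g * M.e ss * g⁻¹ = M.e ss := by rw [t.S_comm hg, mul_inv_cancel_right]
  rcases h1 with h1 | h1 | h1 | h1
  · left; rw [h1]; exact hgv
  · rcases key with ⟨k1, k2⟩ | ⟨k1, k2⟩
    · left; rw [h1, hc, k1]
    · right; rw [h1, hc, k1, mul_assoc, ns]
  · rcases key with ⟨k1, k2⟩ | ⟨k1, k2⟩
    · left; rw [h1, hc, k2]
    · right; rw [h1, hc, k2, mul_assoc, as]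
  · left; rw [h1, hc, hgs]

end one

end Cfsg.Agent.Omega.TTn.Z.Member

end

section


/-!
# LeafF4, `m = m' = 2`, `n` not 2-central: reduction to (O1) (#15257, #16767)

`O1` : `Z.Base S M M k` (a mutual pair `A`, `A ^ k`), `V₀ ≠ 1`, all known facts, and the ten groups `U_π` have a common
element `≠ 1`. `f4nc_of : O1 → F4NC`.
-/

set_option autoImplicit false
set_option linter.unusedSectionVars false

namespace Cfsg.Agent.Omega.F4Leaf.NC

open Subgroup Cfsg Cfsg.Agent.ZN Cfsg.Agent.ZN.ChoiceBase Cfsg.Agent.Omega.MinPar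
open Cfsg.Agent.Omega.Frame Cfsg.Agent.Omega.FFThm
open Cfsg.Agent.Omega.FrameLE (AllIn)
open Cfsg.Agent.Omega.FrameFF (cv)
open Cfsg.Agent.Omega.FrameMulti (AllTyped NoWr)
open Cfsg.Agent.Omega.S5.Mod Cfsg.Agent.Omega.S5.TT Cfsg.Agent.Omega.S5.Pair Cfsg.Agent.Omega.S5.Main
open Cfsg.Agent.Omega.F4Leaf.Def Cfsg.Agent.Omega.F4Leaf.Main Cfsg.Agent.Omega.TTn

universe u

/-- **(O1)** -/
def O1 : Prop :=
  ∀ (G : Type u) [Group G] [Finite G], Ctx G → ∀ (S : Sylow 2 G), Full (S : Subgroup G) →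
    AllIn (S : Subgroup G) → AllTyped (S : Subgroup G) → NoWr (S : Subgroup G) →
    ∀ (P A : Subgroup G) (ε : (Fin (2 ^ 2 + 1) → ZMod 2) → G) (M : FiveMod A P) (k : G),
      IsParS (S : Subgroup G) P → Split (S : Subgroup G) P 2 A ε → Z.Base S M M k →
      Z.OmT.Dat S M (cv (S : Subgroup G) P) (zc (o2 P)) →
      zc ((S : Subgroup G) ⊓ centralizer ({M.e nn} : Set G)) ≤ zc (o2 P) →
      cv (S : Subgroup G) P ≠ ⊥ → A ≤ Q (M.e ss) →
      ¬ UU (M.e nn) (M.e aa) ≤ Q (M.e aa) →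
      (∃ x, x ≠ 1 ∧ ∀ i j, i ≠ j → x ∈ Di.UP M i j) → False

/-- **F4NC from (O1)** -/
theorem f4nc_of (h1 : O1.{u}) : F4NC.{u} := by
  intro G _ _ hG S hF hI hT hW P₁ P₂ y A ε A₂ ε₂ hl hc₁ hc₂ hC
  have hp₁ := hl.pair.star₁
  have hp₂ := hl.pair.star₂
  obtain ⟨g, k, M₁, M₂, -, b⟩ := Z.exists_base hG.char2 hl
    (fun M t => Z.Member.hB hG.char2 hl.split hp₁ M t) (fun M t => Z.Member.hB hG.char2 hl.split₂ hp₂ M t) hC
  obtain ⟨k', b'⟩ := b.to_one₁
  have t := Z.Member.dat hG.char2 hl.split hp₁ M₁ b.dih₁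
  have hz := Z.Member.zT_le hG.char2 hl.split hp₁ M₁
  exact h1 G hG S hF hI hT hW P₁ A ε M₁ k' hp₁ hl.split b' t hz hc₁ (Z.Nc.le_Qs b' t hc₁)
    (Z.Nc.not_le b' t hz hc₁) (Z.Nc.exists_inf b' t hz hc₁)

end Cfsg.Agent.Omega.F4Leaf.NC

end

section


/-!
# The hypotheses of `NC.O1` give the configuration `OT.Tone.Cfg`

* `cfg_of` : `Dat` + `Z.Base` + `V₀ ≠ 1` ⟹ `Tone.Cfg S M k V₀`;
* `o1_of` : `NC.O1` from the contradiction in `Tone.Cfg` (plus the other data of `O1`).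
-/

set_option autoImplicit false
set_option linter.unusedSectionVars false

namespace Cfsg.Agent.Omega.F4Leaf.OT.OfO1

open Subgroup Cfsg Cfsg.Agent.ZN Cfsg.Agent.ZN.ChoiceBase Cfsg.Agent.Omega.MinPar
open Cfsg.Agent.Omega.Frame Cfsg.Agent.Omega.FFThm
open Cfsg.Agent.Omega.FrameLE (AllIn)
open Cfsg.Agent.Omega.FrameFF (cv)
open Cfsg.Agent.Omega.FrameMulti (AllTyped NoWr)
open Cfsg.Agent.Omega.S5.Mod Cfsg.Agent.Omega.S5.TT Cfsg.Agent.Omega.S5.Pair Cfsg.Agent.Omega.S5.Main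
open Cfsg.Agent.Omega.F4Leaf.Def Cfsg.Agent.Omega.F4Leaf.Main Cfsg.Agent.Omega.TTn

universe u

/-- the configuration of `OT/Tone.lean` -/
theorem cfg_of {G : Type u} [Group G] [Finite G] {S : Sylow 2 G} {A L : Subgroup G} {M : FiveMod A L} {k : G}
    {V₀ Om : Subgroup G} (b : Z.Base S M M k) (t : Z.OmT.Dat S M V₀ Om)
    (hz : zc ((S : Subgroup G) ⊓ centralizer ({M.e nn} : Set G)) ≤ Om) (hne : V₀ ≠ ⊥) :
    Tone.Cfg S M k V₀ where
  b := b
  V0L g hg v hv := t.V0L g hg v hv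
  V02 v hv := t.Om2 v (t.V0Om hv)
  V0S := t.V0Om.trans t.OmS
  zT := Z.Nc.zT t hz
  ne := hne

/-- **(O1) from the contradiction in the configuration** -/
theorem o1_of (h : ∀ (G : Type u) [Group G] [Finite G], Ctx G → ∀ (S : Sylow 2 G),
    ∀ (A L : Subgroup G) (M : FiveMod A L) (k : G) (V₀ : Subgroup G),
      IsParS (S : Subgroup G) L → o2 L ≤ centralizer (A : Set G) → Tone.Cfg S M k V₀ → False) : NC.O1.{u} := by
  intro G _ _ hG S hF hI hT hW P A ε M k hP hs b t hz hne hQ hn hx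
  exact h G hG S A P M k (cv (S : Subgroup G) P) hP (Z.Member.o2_le_cA hG.char2 hs hP) (cfg_of b t hz hne)

/-- **F4NC from the contradiction in the configuration** -/
theorem f4nc_of (h : ∀ (G : Type u) [Group G] [Finite G], Ctx G → ∀ (S : Sylow 2 G),
    ∀ (A L : Subgroup G) (M : FiveMod A L) (k : G) (V₀ : Subgroup G),
      IsParS (S : Subgroup G) L → o2 L ≤ centralizer (A : Set G) → Tone.Cfg S M k V₀ → False) : F4NC.{u} :=
  NC.f4nc_of (o1_of h)

end Cfsg.Agent.Omega.F4Leaf.OT.OfO1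

end

end

-- merged: Cfsg.Agent.Mrg.Omega.F4Leaf.OT.Done
section

/-!
# LeafF4, `m = 2`, `n` not 2-central (O1): the contradiction (#18759, #18723)

* `false_of` : the configuration `Tone.Cfg` is contradictory;
* `o1`, `f4nc` : `NC.O1`, `F4NC`.
-/

set_option autoImplicit false

namespace Cfsg.Agent.Omega.F4Leaf.OT.Done

open Subgroup Cfsg
open Cfsg.Agent.Omega.S5.Mod Cfsg.Agent.Omega.S5.TT
open Cfsg.Agent.Omega.F4Leaf.OT.Tone Cfsg.Agent.Omega.F4Leaf.OT.Line Cfsg.Agent.Omega.F4Leaf.OT.Inst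
open Cfsg.Agent.Omega.HT

universe u

/-- **the configuration of (O1) is contradictory** -/
theorem false_of {G : Type u} [Group G] [Finite G] {S : Sylow 2 G} {A L : Subgroup G} {M : FiveMod A L} {k : G}
    {V₀ : Subgroup G} (c : Cfg S M k V₀) : False := by
  have b := htt c
  have hr := Inst.hr c
  obtain ⟨x, hx, y, hy, hx1, hy1, hne⟩ := exists_two c
  refine hne (Main.main b (Inst.hLE c) hr (odd_MZ c) (fun _ z hz hs => ?_) x hx y hy hx1 hy1)
  obtain ⟨v, hv, rfl⟩ := Sg.sig c hz.1 (b.cz_le hz) hs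
  have hcore := Main.core_of_odd b hr hz (c.ne_a hv) (odd_MP c hv)
  exact ⟨v * M.e aa, hz, c.ne_a hv, Or.inr rfl, hcore,
    AlphaY.not_alpha b hr (Inst.hLE c) hz (c.ne_a hv) (Main.gsys_of_core b hr hz (c.ne_a hv) hcore) (hyV c hv)⟩

theorem o1 : NC.O1.{u} := OfO1.o1_of fun _ _ _ _ _ _ _ _ _ _ _ _ c => false_of c

/-- **F4NC** : `m = 2`, `n` not 2-central is impossible -/
theorem f4nc : F4Leaf.Main.F4NC.{u} := OfO1.f4nc_of fun _ _ _ _ _ _ _ _ _ _ _ _ c => false_of c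

end Cfsg.Agent.Omega.F4Leaf.OT.Done

end

-- merged: Cfsg.Agent.Mrg.Omega.F4Leaf.NoWrFree
section

section


/-!
# LeafF4 for two members of type `S_{2^m+1}`, without the hypothesis `NoWr` (helper856)

* `four_nat`, `four_sym` : `4 |Z| ≤ |V_P|` if `P` has `k ≥ 2` factors;
* `exists_natOver`, `exists_pos`, `cen_known`, `nat_known` : the statements of `Cen/NN.lean`, `Cen/Main.lean` without
  `NoWr`;
* `nc_false` : `F4NC` without `NoWr`;
* `MemH2 K` : (H2) for members of degree `≥ 9` with `V₀ ≠ 1`, without `NoWr`; `symBig_known`;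
* `tt_known` : a mutual pair `P₁, P₂`, not free, of types `S_{2^m+1}`, `S_{2^m'+1}` implies that `G` is known.
-/

set_option autoImplicit false
set_option linter.unusedSectionVars false

namespace Cfsg.Agent.Omega.F4Leaf.NoWrFree

open Subgroup Pointwise Cfsg Cfsg.Agent.ZN Cfsg.Agent.ZN.ChoiceBase Cfsg.Agent.Omega.MinPar
open Cfsg.Agent.Omega.Frame Cfsg.Agent.Omega.FFThm
open Cfsg.Agent.Omega.FrameLE (AllIn)
open Cfsg.Agent.Omega.FrameFF (cv Single Free NatOver)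
open Cfsg.Agent.Omega.FrameMulti (IsSym IsNat Typed AllTyped NoWr LeafF4)
open Cfsg.Agent.Omega.S5.Def Cfsg.Agent.Omega.S5.Syl Cfsg.Agent.Omega.S5.Pair Cfsg.Agent.Omega.S5.Main
open Cfsg.Agent.Omega.S5.SymBig (H2)
open Cfsg.Agent.Omega.F4Leaf.Def Cfsg.Agent.Omega.F4Leaf.Main Cfsg.Agent.Omega.TTn
open Cfsg.Agent.Omega.HOne.Main (vx SplitPar NonFree Same)
open Cfsg.Agent.Omega.F4Leaf.Cen
open Cfsg.Agent.Omega.F4Leaf.Cen.Main (PosExit)

universe u

section count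

variable {G : Type u} [Group G] [Finite G] {S : Sylow 2 G} {P : Subgroup G}

/-- `4 |Z| ≤ |V_P|` for `k ≥ 2` natural factors -/
theorem four_nat {F : Type} [Field F] [Finite F] {k : ℕ}
    (M : NatK F (S : Subgroup G) P (zl (S : Subgroup G) P) (cv (S : Subgroup G) P) k) (hk : 2 ≤ k) :
    4 * Nat.card (zc (S : Subgroup G)) ≤ Nat.card (zl (S : Subgroup G) P) := by
  classical
  have hZV : zc (S : Subgroup G) ≤ zl (S : Subgroup G) P := MinSimple.VModule.zc_le_zl _ _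
  let i : Fin k := ⟨0, by omega⟩
  let j : Fin k := ⟨1, by omega⟩
  have hij : i ≠ j := fun h => by
    have := congrArg Fin.val h
    simp [i, j] at this
  obtain ⟨t, ht, h1⟩ := M.trans i j
  choose s hs hse using fun x : Fin 2 → F => M.surj (Pi.single i x)
  let f : (Fin 2 → F) × zc (S : Subgroup G) → zl (S : Subgroup G) P :=
    fun p => ⟨s p.1 * p.2, mul_mem (hs p.1) (hZV p.2.2)⟩
  have hf : Function.Injective f := by
    rintro ⟨x, z⟩ ⟨y, w⟩ hxy
    have e0 : s x * (z : G) = s y * (w : G) := congrArg Subtype.val hxy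
    have e1 := congrArg M.e e0
    rw [M.mul _ (hs x) _ (hZV z.2), M.mul _ (hs y) _ (hZV w.2), hse, hse] at e1
    have key : ∀ v ∈ zc (S : Subgroup G), M.e v j = 0 → M.e v i = 0 := fun v hv h0 => by
      rw [← h1 v (hZV hv), (MinSimple.VModule.mem_zc.1 hv).2.1 t ht, mul_inv_cancel_right]
      exact h0
    have hzw : (z : G)⁻¹ * w ∈ zc (S : Subgroup G) := mul_mem (inv_mem z.2) w.2
    have e2 : M.e ((z : G)⁻¹ * w) = Pi.single i x - Pi.single i y := by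
      have e3 : M.e (z : G) + M.e ((z : G)⁻¹ * w) = M.e (w : G) := by
        rw [← M.mul _ (hZV z.2) _ (hZV hzw)]
        congr 1
        group
      have e4 : Pi.single i x + M.e (z : G) = Pi.single i y + (M.e (z : G) + M.e ((z : G)⁻¹ * w)) := by
        rw [e3]; exact e1
      have e5 : Pi.single i x = Pi.single i y + M.e ((z : G)⁻¹ * w) := by
        have := e4
        have h6 : Pi.single i x + M.e (z : G) = (Pi.single i y + M.e ((z : G)⁻¹ * w)) + M.e (z : G) := by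
          rw [this]; abel
        exact add_right_cancel h6
      rw [e5]; abel
    have e6 : M.e ((z : G)⁻¹ * w) j = 0 := by
      rw [e2, Pi.sub_apply, Pi.single_eq_of_ne hij.symm, Pi.single_eq_of_ne hij.symm, sub_zero]
    have e7 := key _ hzw e6
    rw [e2, Pi.sub_apply, Pi.single_eq_same, Pi.single_eq_same, sub_eq_zero] at e7
    subst e7
    have e8 : (z : G) = w := mul_left_cancel e0
    exact Prod.ext rfl (Subtype.ext e8)
  have h2 := Nat.card_le_card_of_injective f hf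
  rw [Nat.card_prod, Nat.card_fun] at h2
  have h3 : 2 ≤ Nat.card F := Finite.one_lt_card
  have h4 : 4 ≤ Nat.card F ^ Nat.card (Fin 2) := by
    rw [Nat.card_fin]
    nlinarith
  exact (Nat.mul_le_mul_right _ h4).trans h2

/-- `4 |Z| ≤ |V_P|` for `k ≥ 2` factors `S_{2^m+1}` -/
theorem four_sym {k m : ℕ}
    (M : SymK (S : Subgroup G) P (zl (S : Subgroup G) P) (cv (S : Subgroup G) P) k m) (hk : 2 ≤ k) (hm : 1 ≤ m) :
    4 * Nat.card (zc (S : Subgroup G)) ≤ Nat.card (zl (S : Subgroup G) P) := by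
  classical
  have hZV : zc (S : Subgroup G) ≤ zl (S : Subgroup G) P := MinSimple.VModule.zc_le_zl _ _
  let i : Fin k := ⟨0, by omega⟩
  let j : Fin k := ⟨1, by omega⟩
  have hij : i ≠ j := fun h => by
    have := congrArg Fin.val h
    simp [i, j] at this
  obtain ⟨t, ht, σ, τ, h1, hσ⟩ := M.trans i j
  let c : (Fin (2 ^ m) → ZMod 2) → Fin (2 ^ m + 1) → ZMod 2 := fun y => Fin.cons (∑ x, y x) y
  have hc : ∀ y, ∑ x, c y x = 0 := fun y => by
    rw [Fin.sum_univ_succ]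
    simp only [c, Fin.cons_zero, Fin.cons_succ]
    exact CharTwo.add_self_eq_zero _
  have hci : ∀ y y', c y = c y' → y = y' := fun y y' h => by
    funext a
    have := congrFun h a.succ
    simpa [c] using this
  have hsur : ∀ y : Fin (2 ^ m) → ZMod 2, ∃ v ∈ zl (S : Subgroup G) P, M.e v = Pi.single i (c y) := fun y =>
    M.surj _ fun a => by
      by_cases h : a = i
      · subst h
        rw [Pi.single_eq_same]
        exact hc y
      · rw [Pi.single_eq_of_ne h]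
        simp
  choose s hs hse using hsur
  let f : (Fin (2 ^ m) → ZMod 2) × zc (S : Subgroup G) → zl (S : Subgroup G) P :=
    fun p => ⟨s p.1 * p.2, mul_mem (hs p.1) (hZV p.2.2)⟩
  have hf : Function.Injective f := by
    rintro ⟨x, z⟩ ⟨y, w⟩ hxy
    have e0 : s x * (z : G) = s y * (w : G) := congrArg Subtype.val hxy
    have e1 := congrArg M.e e0
    rw [M.mul _ (hs x) _ (hZV z.2), M.mul _ (hs y) _ (hZV w.2), hse, hse] at e1
    have key : ∀ v ∈ zc (S : Subgroup G), M.e v j = 0 → M.e v i = 0 := fun v hv h0 => by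
      funext a
      have h2 := h1 v (hZV hv) i a
      rw [(MinSimple.VModule.mem_zc.1 hv).2.1 t ht, mul_inv_cancel_right, hσ, h0] at h2
      exact h2.symm
    have hzw : (z : G)⁻¹ * w ∈ zc (S : Subgroup G) := mul_mem (inv_mem z.2) w.2
    have e2 : M.e ((z : G)⁻¹ * w) = Pi.single i (c x) - Pi.single i (c y) := by
      have e3 : M.e (z : G) + M.e ((z : G)⁻¹ * w) = M.e (w : G) := by
        rw [← M.mul _ (hZV z.2) _ (hZV hzw)]
        congr 1
        group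
      have e4 : Pi.single i (c x) + M.e (z : G) =
          Pi.single i (c y) + (M.e (z : G) + M.e ((z : G)⁻¹ * w)) := by
        rw [e3]; exact e1
      have e5 : Pi.single i (c x) = Pi.single i (c y) + M.e ((z : G)⁻¹ * w) := by
        have h6 : Pi.single i (c x) + M.e (z : G) =
            (Pi.single i (c y) + M.e ((z : G)⁻¹ * w)) + M.e (z : G) := by
          rw [e4]; abel
        exact add_right_cancel h6
      rw [e5]; abel
    have e6 : M.e ((z : G)⁻¹ * w) j = 0 := by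
      rw [e2, Pi.sub_apply, Pi.single_eq_of_ne hij.symm, Pi.single_eq_of_ne hij.symm, sub_zero]
    have e7 := key _ hzw e6
    rw [e2, Pi.sub_apply, Pi.single_eq_same, Pi.single_eq_same, sub_eq_zero] at e7
    obtain rfl := hci _ _ e7
    have e8 : (z : G) = w := mul_left_cancel e0
    exact Prod.ext rfl (Subtype.ext e8)
  have h2 := Nat.card_le_card_of_injective f hf
  rw [Nat.card_prod, Nat.card_fun] at h2
  have h4 : 4 ≤ Nat.card (ZMod 2) ^ Nat.card (Fin (2 ^ m)) := by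
    rw [Nat.card_fin, Nat.card_zmod]
    have h5 : 2 ≤ 2 ^ m := by
      calc 2 = 2 ^ 1 := by norm_num
        _ ≤ 2 ^ m := Nat.pow_le_pow_right (by norm_num) hm
    calc 4 = 2 ^ 2 := by norm_num
      _ ≤ 2 ^ 2 ^ m := Nat.pow_le_pow_right (by norm_num) h5
  exact (Nat.mul_le_mul_right _ h4).trans h2

/-- a typed member with `|V_P| = 2 |Z|` has one natural factor and `q = 2` -/
theorem exists_natOver (hG : IsCharacteristicTwoType G) (hT : Typed (S : Subgroup G) P)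
    (hP : IsParS (S : Subgroup G) P)
    (c : Nat.card (zl (S : Subgroup G) P) = 2 * Nat.card (zc (S : Subgroup G))) :
    ∃ (F : Type) (_ : Field F) (_ : Finite F) (_ : CharP F 2), Nat.card F = 2 ∧
      Nonempty (NatOver F P (zl (S : Subgroup G) P) (cv (S : Subgroup G) P)) := by
  have hpos : 0 < Nat.card (cv (S : Subgroup G) P) := Nat.card_pos
  have hz : 0 < Nat.card (zc (S : Subgroup G)) := Nat.card_pos
  rcases hT.cases with ⟨k, hk, F, i1, i2, i3, ⟨M⟩⟩ | ⟨k, m, hk, hm2, ⟨M⟩⟩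
  · rcases Nat.lt_or_ge k 2 with h1 | h1
    · obtain rfl : k = 1 := by omega
      refine ⟨F, i1, i2, i3, ?_, ⟨M.natOver⟩⟩
      have h1 := F4Leaf.NatStep.card_eq M inf_le_left
      have h2 := NN.card_zc_le M
      have h3 : 2 ≤ Nat.card F := Finite.one_lt_card
      have h4 : Nat.card F ^ 2 * Nat.card (cv (S : Subgroup G) P) ≤
          2 * (Nat.card F * Nat.card (cv (S : Subgroup G) P)) := by
        rw [← h1, c]
        exact Nat.mul_le_mul_left _ h2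
      have h5 : Nat.card F * (Nat.card F * Nat.card (cv (S : Subgroup G) P)) ≤
          2 * (Nat.card F * Nat.card (cv (S : Subgroup G) P)) := by
        calc _ = Nat.card F ^ 2 * Nat.card (cv (S : Subgroup G) P) := by ring
          _ ≤ _ := h4
      have h6 := Nat.le_of_mul_le_mul_right h5 (Nat.mul_pos (by omega) hpos)
      omega
    · have := four_nat M h1
      omega
  · exfalso
    rcases Nat.lt_or_ge k 2 with h1 | h1
    · obtain rfl : k = 1 := by omega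
      obtain ⟨A, ε, h⟩ := F4Leaf.Split.exists_split hG hP (by omega) M
      have h1 := h.card_zc hG hP (by omega)
      have h2 := NN.card_sym M inf_le_left
      rw [c, h1] at h2
      have h3 : 2 ^ 2 ^ m * Nat.card (cv (S : Subgroup G) P) ≤ 4 * Nat.card (cv (S : Subgroup G) P) := by
        calc _ ≤ 2 * (2 * Nat.card (cv (S : Subgroup G) P)) := h2
          _ = _ := by ring
      have h4 := Nat.le_of_mul_le_mul_right h3 hpos
      have h5 : 4 ≤ 2 ^ m := by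
        calc 4 = 2 ^ 2 := by norm_num
          _ ≤ 2 ^ m := Nat.pow_le_pow_right (by norm_num) hm2
      have h6 : 2 ^ 4 ≤ 2 ^ 2 ^ m := Nat.pow_le_pow_right (by norm_num) h5
      norm_num at h6
      omega
    · have := four_sym M h1 (by omega)
      omega

end count

section known

/-- **the position**, without `NoWr` -/
theorem exists_pos {G : Type u} [Group G] [Finite G] (hG : Ctx G) (S : Sylow 2 G) (hT : AllTyped (S : Subgroup G))
    {P₁ P₂ : Subgroup G} {x : G} (h : NonFree (S : Subgroup G) P₁ P₂ x)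
    (c₁ : Nat.card (zl (S : Subgroup G) P₁) = 2 * Nat.card (zc (S : Subgroup G)))
    (c₂ : Nat.card (zl (S : Subgroup G) P₂) = 2 * Nat.card (zc (S : Subgroup G))) :
    ∃ (P V : Subgroup G) (ι : Type u) (R : ι → Subgroup G) (o : ι) (r z : G), HTwo.Entry.Pos S P V R o r z := by
  obtain ⟨t₁, t₂⟩ := hT P₁ P₂ x h.mp
  obtain ⟨F₁, _, _, _, hF₁, ⟨o₁⟩⟩ := exists_natOver hG.char2 t₁ h.mp.star₁ c₁
  obtain ⟨F₂, _, _, _, hF₂, ⟨o₂⟩⟩ := exists_natOver hG.char2 t₂ h.mp.star₂ c₂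
  exact NN.exists_pos_of hG S h o₁ o₂ hF₁ hF₂ c₁ c₂

/-- `m = m' = 2`, `n` 2-central, without `NoWr` -/
theorem cen_known (hX : PosExit.{u}) (G : Type u) [Group G] [Finite G] (hG : Ctx G) (S : Sylow 2 G)
    (hF : Full (S : Subgroup G)) (hI : AllIn (S : Subgroup G)) (hT : AllTyped (S : Subgroup G))
    (P₁ P₂ : Subgroup G) (y : G) (A : Subgroup G)
    (ε : (Fin (2 ^ 2 + 1) → ZMod 2) → G) (A₂ : Subgroup G) (ε₂ : (Fin (2 ^ 2 + 1) → ZMod 2) → G)
    (hl : LabTwoZ S P₁ P₂ y 2 2 A ε A₂ ε₂)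
    (hC : Cen (zl (S : Subgroup G) P₁) (cj y (zl (S : Subgroup G) P₂))) : IsKnownSimple' G := by
  obtain ⟨p, e, p₂, e₂, h⟩ := Entry.tt_side hG.char2 hl hC
  obtain ⟨R, R₂, x, hR, c, c₂⟩ := h.exists_pair hG.char2 S
  obtain ⟨P, V, ι, R', o, r, z, hp⟩ := exists_pos hG S hT hR c c₂
  exact hX G hG S hF hI P V ι R' o r z hp

/-- `m = 2`, natural partner, without `NoWr` -/
theorem nat_known (hX : PosExit.{u}) (G : Type u) [Group G] [Finite G] (hG : Ctx G) (S : Sylow 2 G)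
    (hF : Full (S : Subgroup G)) (hI : AllIn (S : Subgroup G)) (hT : AllTyped (S : Subgroup G))
    (P₁ P₂ : Subgroup G) (y : G) (A : Subgroup G)
    (ε : (Fin (2 ^ 2 + 1) → ZMod 2) → G) (hl : LabZ S P₁ P₂ y 2 A ε) (hN : IsNat (S : Subgroup G) P₂ 1)
    (hcv : cv (S : Subgroup G) P₂ ≠ ⊥) : IsKnownSimple' G := by
  obtain ⟨p, e, h⟩ := Entry.nat_side hG.char2 hl hN
  obtain ⟨R, x, hR, c, hne⟩ := h.exists_pair hG.char2 S hl.pair.star₂
  obtain ⟨c1, c2⟩ := NatStep.natStep G hG.char2 S P₁ P₂ y 2 A ε (by norm_num) hl hN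
  obtain ⟨P, V, ι, R', o, r, z, hp⟩ := exists_pos hG S hT ⟨hR, hne, hcv⟩ c (by omega)
  exact hX G hG S hF hI P V ι R' o r z hp

/-- `m = m' = 2`, `n` not 2-central, without `NoWr` -/
theorem nc_false (G : Type u) [Group G] [Finite G] (hG : Ctx G) (S : Sylow 2 G)
    (P₁ P₂ : Subgroup G) (y : G) (A : Subgroup G) (ε : (Fin (2 ^ 2 + 1) → ZMod 2) → G)
    (A₂ : Subgroup G) (ε₂ : (Fin (2 ^ 2 + 1) → ZMod 2) → G)
    (hl : LabTwoZ S P₁ P₂ y 2 2 A ε A₂ ε₂) (hc₁ : cv (S : Subgroup G) P₁ ≠ ⊥)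
    (hC : ¬ Cen (zl (S : Subgroup G) P₁) (cj y (zl (S : Subgroup G) P₂))) : False := by
  have hp₁ := hl.pair.star₁
  have hp₂ := hl.pair.star₂
  obtain ⟨g, k, M₁, M₂, -, b⟩ := Z.exists_base hG.char2 hl
    (fun M t => Z.Member.hB hG.char2 hl.split hp₁ M t) (fun M t => Z.Member.hB hG.char2 hl.split₂ hp₂ M t) hC
  obtain ⟨k', b'⟩ := b.to_one₁
  have t := Z.Member.dat hG.char2 hl.split hp₁ M₁ b.dih₁
  have hz := Z.Member.zT_le hG.char2 hl.split hp₁ M₁
  exact OT.Done.false_of (OT.OfO1.cfg_of b' t hz hc₁)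

/-- **(H2)** for the member `V = V_{P₁}` of degree `2^m + 1 ≥ 9`, `V₀ ≠ 1`, of a mutual pair, without `NoWr`. -/
def MemH2 (K : Cls.{u}) : Prop :=
  ∀ (G : Type u) [Group G] [Finite G], Ctx G → K G → ∀ (S : Sylow 2 G), Full (S : Subgroup G) →
    AllIn (S : Subgroup G) → AllTyped (S : Subgroup G) →
    ∀ (P₁ P₂ : Subgroup G) (y : G) (m : ℕ) (A : Subgroup G) (ε : (Fin (2 ^ m + 1) → ZMod 2) → G), 3 ≤ m →
      LabZ S P₁ P₂ y m A ε → cv (S : Subgroup G) P₁ ≠ ⊥ → cv (S : Subgroup G) P₂ ≠ ⊥ → ¬ IsKnownSimple' G → H2 ε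

theorem MemH2.toTwo {K : Cls.{u}} (h : MemH2 K) : F4Leaf.Two.MemH2 K :=
  fun G _ _ hG hcl S hF hI hT _ => h G hG hcl S hF hI hT

/-- `m ≥ 3` or `m' ≥ 3` from (H2), without `NoWr` -/
theorem symBig_known {K : Cls.{u}} (h2 : MemH2 K) (G : Type u) [Group G] [Finite G] (hG : Ctx G) (hcl : K G)
    (S : Sylow 2 G) (hF : Full (S : Subgroup G)) (hI : AllIn (S : Subgroup G)) (hT : AllTyped (S : Subgroup G))
    (P₁ P₂ : Subgroup G) (y : G) (m m' : ℕ) (A : Subgroup G) (ε : (Fin (2 ^ m + 1) → ZMod 2) → G)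
    (A₂ : Subgroup G) (ε₂ : (Fin (2 ^ m' + 1) → ZMod 2) → G) (hm : 2 ≤ m) (hm' : 2 ≤ m') (hbig : 3 ≤ m ∨ 3 ≤ m')
    (hl : LabTwoZ S P₁ P₂ y m m' A ε A₂ ε₂) (hc₁ : cv (S : Subgroup G) P₁ ≠ ⊥)
    (hc₂ : cv (S : Subgroup G) P₂ ≠ ⊥) : IsKnownSimple' G := by
  by_contra hk
  rcases hbig with h3 | h3
  · exact Two.false_two hG.char2 hl h3 hm'
      (h2 G hG hcl S hF hI hT P₁ P₂ y m A ε h3 hl.toLabZ hc₁ hc₂ hk)
  · have hl' := Two.labTwoZ_symm hl
    exact Two.false_two hG.char2 hl' h3 hm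
      (h2 G hG hcl S hF hI hT P₂ P₁ y⁻¹ m' A₂ ε₂ h3 hl'.toLabZ hc₂ hc₁ hk)

/-- **Two members of type `S_{2^m+1}`, `S_{2^m'+1}` of a mutual pair, not free**, without `NoWr`. -/
theorem tt_known {K : Cls.{u}} (hX : PosExit.{u}) (h2 : MemH2 K) (G : Type u) [Group G] [Finite G] (hG : Ctx G)
    (hcl : K G) (S : Sylow 2 G) (hF : Full (S : Subgroup G)) (hI : AllIn (S : Subgroup G))
    (hT : AllTyped (S : Subgroup G)) (P₁ P₂ : Subgroup G) (x : G) (hm : Mutual (S : Subgroup G) P₁ P₂ x)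
    (hnf : ¬ (Free (S : Subgroup G) P₁ ∧ Free (S : Subgroup G) P₂)) (m m' : ℕ) (hm2 : 2 ≤ m) (hm2' : 2 ≤ m')
    (hS : IsSym (S : Subgroup G) P₁ 1 m) (hS' : IsSym (S : Subgroup G) P₂ 1 m') : IsKnownSimple' G := by
  obtain ⟨y, hp⟩ := S5.Main.exists_pos hG.char2 S hT hm
  obtain ⟨A, ε, hs⟩ := Split.splitStep G hG.char2 S P₁ m hm2 hp.pair.star₁ hS
  have c1 := hs.card_zc hG.char2 hp.pair.star₁ (by omega)
  obtain ⟨A₂, ε₂, hs₂⟩ := Split.splitStep G hG.char2 S P₂ m' hm2' hp.pair.star₂ hS'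
  have c2 := hs₂.card_zc hG.char2 hp.pair.star₂ (by omega)
  have hne : cv (S : Subgroup G) P₁ ≠ ⊥ ∧ cv (S : Subgroup G) P₂ ≠ ⊥ := by
    rw [ne_bot_iff, ne_bot_iff]
    have e : Nat.card (cv (S : Subgroup G) P₁) = Nat.card (cv (S : Subgroup G) P₂) := by omega
    rw [e, and_self]
    intro h0
    apply hnf
    exact ⟨Subgroup.card_eq_one.mp (e.trans h0), Subgroup.card_eq_one.mp h0⟩
  have hl := labTwoZ hp hs hs₂
  by_cases hbig : 3 ≤ m ∨ 3 ≤ m'
  · exact symBig_known h2 G hG hcl S hF hI hT P₁ P₂ y m m' A ε A₂ ε₂ hm2 hm2' hbig hl hne.1 hne.2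
  · obtain rfl : m = 2 := by omega
    obtain rfl : m' = 2 := by omega
    by_cases hC : Cen (zl (S : Subgroup G) P₁) (cj y (zl (S : Subgroup G) P₂))
    · exact cen_known hX G hG S hF hI hT P₁ P₂ y A ε A₂ ε₂ hl hC
    · exact (nc_false G hG S P₁ P₂ y A ε A₂ ε₂ hl hne.1 hC).elim

end known

end Cfsg.Agent.Omega.F4Leaf.NoWrFree

end

section


/-!
# II.d: `TTPair K` (`Cv/SymPlug.lean`) from the exit `PosExit` and (H2) (helper856)
-/

set_option autoImplicit false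

namespace Cfsg.Agent.Omega.IId.Cv

open Cfsg Cfsg.Agent.Omega.MinPar Cfsg.Agent.Omega.Frame Cfsg.Agent.Omega.FrameMulti

universe u

/-- **`TTPair`**: LeafF4 for two members of type `S_{2^m+1}`, without `NoWr`. -/
theorem ttPair_of {K : Cls.{u}} (hX : F4Leaf.Cen.Main.PosExit.{u}) (h2 : F4Leaf.NoWrFree.MemH2 K) : TTPair K :=
  fun G _ _ hG hcl S hF hI hT P₁ P₂ x hm hnf m m' h h' hS hS' =>
    F4Leaf.NoWrFree.tt_known hX h2 G hG hcl S hF hI hT P₁ P₂ x hm hnf m m' h h' hS hS'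

end Cfsg.Agent.Omega.IId.Cv

end

end
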